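import Mathlib

/-!
# The arithmetic of the sixteen characters

Three integral scaled idempotent matrices and a column, congruent modulo 4, leave no room for a
character of even value.
-/

set_option autoImplicit false
set_option linter.unusedSectionVars false

namespace Cfsg.Lib.Blocks.SixteenNine

variable {ι : Type*} [Fintype ι] [DecidableEq ι]

/-- The hypotheses on one of the two matrices. -/
structure Side (A : ι → ι → ℤ) (d : ι → ℤ) : Prop where
  symm : ∀ i j, A i j = A j i
  sq : ∀ i j, ∑ l, A i l * A j l = 16 * A i j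
  orth : ∀ i, ∑ l, A i l * d l = 0
  congr : ∀ i j, (4 : ℤ) ∣ A i j + d i * d j
  trace : ∑ i, A i i = 48

lemma Side.nonneg {A : ι → ι → ℤ} {d : ι → ℤ} (hA : Side A d) (i : ι) : 0 ≤ A i i := by
  have h : 0 ≤ ∑ l, A i l * A i l := Finset.sum_nonneg fun l _ => mul_self_nonneg _
  rw [hA.sq] at h
  linarith

lemma Side.row_zero {A : ι → ι → ℤ} {d : ι → ℤ} (hA : Side A d) {i : ι} (h : A i i = 0) (j : ι) :
    A i j = 0 := by
  have h' := hA.sq i i
  rw [h, mul_zero, Finset.sum_eq_zero_iff_of_nonneg fun l _ => mul_self_nonneg _] at h'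
  exact mul_self_eq_zero.1 (h' j (Finset.mem_univ j))

lemma Side.pos_of_two {A : ι → ι → ℤ} {d : ι → ℤ} (hA : Side A d) {o : ι} (ho : d o = 1) {i : ι}
    (hi : d i = 2 ∨ d i = -2) : 4 ≤ A i i := by
  have h0 := hA.nonneg i
  have h4 := hA.congr i i
  have hne : A i i ≠ 0 := fun h => by
    have h' := hA.congr i o
    rw [hA.row_zero h o, ho, mul_one] at h'
    rcases hi with e | e <;> rw [e] at h' <;> omega
  rcases hi with e | e <;> rw [e] at h4 <;> omega

/-- Squares that are two modulo four. -/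
lemma sq_two_mod {x : ℤ} (h : ¬ (4 : ℤ) ∣ x) (h2 : (2 : ℤ) ∣ x) :
    ∃ t : ℤ, 0 ≤ t ∧ x * x = 4 + 32 * t := by
  obtain ⟨y, rfl⟩ := h2
  obtain ⟨z, rfl⟩ : ∃ z, y = 2 * z + 1 := ⟨y / 2, by omega⟩
  obtain ⟨w, hw⟩ : (2 : ℤ) ∣ z * (z + 1) := (Int.even_mul_succ_self z).two_dvd
  refine ⟨w, ?_, by linarith⟩
  rcases le_or_gt 0 z with h | h
  · have := mul_nonneg h (by linarith : (0 : ℤ) ≤ z + 1); linarith
  · have := mul_nonneg_of_nonpos_of_nonpos h.le (by linarith : z + 1 ≤ 0); linarith

lemma odd_sq {x : ℤ} (h : ¬ (2 : ℤ) ∣ x) : ∃ t : ℤ, 0 ≤ t ∧ x * x = 1 + 8 * t := by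
  obtain ⟨z, rfl⟩ : ∃ z, x = 2 * z + 1 := ⟨x / 2, by omega⟩
  obtain ⟨w, hw⟩ : (2 : ℤ) ∣ z * (z + 1) := (Int.even_mul_succ_self z).two_dvd
  refine ⟨w, ?_, by linarith⟩
  rcases le_or_gt 0 z with h | h
  · have := mul_nonneg h (by linarith : (0 : ℤ) ≤ z + 1); linarith
  · have := mul_nonneg_of_nonpos_of_nonpos h.le (by linarith : z + 1 ≤ 0); linarith

lemma sum_sub_even (s : Finset ι) (f : ι → ℤ) :
    (2 : ℤ) ∣ (∑ i ∈ s, f i * f i) - ∑ i ∈ s, f i := by
  rw [← Finset.sum_sub_distrib]
  refine Finset.dvd_sum fun i _ => ?_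
  rw [show f i * f i - f i = (f i - 1) * (f i - 1 + 1) by ring]
  exact (Int.even_mul_succ_self _).two_dvd

variable (d : ι → ℤ)

set_option maxHeartbeats 1000000 in
/-- The row of a character of value two. -/
theorem row_sign (hd : ∀ i, d i = 1 ∨ d i = -1 ∨ d i = 2 ∨ d i = -2)
    (hd2 : ∑ i, d i * d i = 16) (hk : 9 ≤ Fintype.card ι) {A : ι → ι → ℤ} (hA : Side A d)
    (hdiag : ∀ i, d i = 2 ∨ d i = -2 → A i i = 4) {h : ι} (hh : d h = 2 ∨ d h = -2) :
    ((Finset.univ.filter fun i => d i = 1 ∨ d i = -1).card = 8) ∧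
      (∀ i, d i = 1 ∨ d i = -1 → A h i = -(d h * d i)) ∧
      ∀ i, d i = 2 ∨ d i = -2 → A h i = 4 ∨ A h i = -4 ∨ A h i = 0 := by
  classical
  set O := Finset.univ.filter (fun i => d i = 1 ∨ d i = -1) with hO
  set E := Finset.univ.filter (fun i => ¬ (d i = 1 ∨ d i = -1)) with hE
  have hO' : ∀ i, i ∈ O ↔ d i = 1 ∨ d i = -1 := fun i => by simp [hO]
  have hE' : ∀ i, i ∈ E ↔ d i = 2 ∨ d i = -2 := fun i => by
    simp only [hE, Finset.mem_filter, Finset.mem_univ, true_and]
    rcases hd i with e | e | e | e <;> omega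
  have hsplit : ∀ f : ι → ℤ, ∑ i, f i = ∑ i ∈ O, f i + ∑ i ∈ E, f i := fun f =>
    (Finset.sum_filter_add_sum_filter_not _ _ f).symm
  have hn : (O.card : ℤ) + 4 * E.card = 16 := by
    rw [← hd2, hsplit,
      Finset.sum_congr rfl (s₁ := O) fun i hi => show d i * d i = 1 by
        rcases (hO' i).1 hi with e | e <;> rw [e] <;> norm_num,
      Finset.sum_congr rfl (s₁ := E) fun i hi => show d i * d i = 4 by
        rcases (hE' i).1 hi with e | e <;> rw [e] <;> norm_num]
    simp [mul_comm]
  have hcard : O.card + E.card = Fintype.card ι := by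
    rw [hO, hE, Finset.card_filter_add_card_filter_not, Finset.card_univ]
  have hhE : h ∈ E := (hE' h).2 hh
  have hE1 : 1 ≤ E.card := Finset.card_pos.2 ⟨h, hhE⟩
  -- the squares of the row
  have hrow : ∑ i, A h i * A h i = 64 := by rw [hA.sq, hdiag h hh]; norm_num
  have hAO : ∀ i ∈ O, ¬ (4 : ℤ) ∣ A h i ∧ (2 : ℤ) ∣ A h i := fun i hi => by
    have h' := hA.congr h i
    rcases (hO' i).1 hi with e | e <;> rcases hh with e' | e' <;> rw [e, e'] at h' <;> omega
  have hAE : ∀ i ∈ E, (4 : ℤ) ∣ A h i := fun i hi => by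
    have h' := hA.congr h i
    rcases (hE' i).1 hi with e | e <;> rcases hh with e' | e' <;> rw [e, e'] at h' <;> omega
  choose! t ht0 ht using fun i hi => sq_two_mod (hAO i hi).1 (hAO i hi).2
  rw [hsplit, Finset.sum_congr rfl (s₁ := O) ht, Finset.sum_add_distrib, Finset.sum_const,
    ← Finset.mul_sum, nsmul_eq_mul] at hrow
  have hEge : 16 ≤ ∑ i ∈ E, A h i * A h i := by
    refine le_trans ?_ (Finset.single_le_sum (f := fun i => A h i * A h i)
      (fun i _ => mul_self_nonneg _) hhE)
    show 16 ≤ A h h * A h h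
    rw [hdiag h hh]; norm_num
  have hkO : 8 ≤ O.card := by omega
  have hT : ∑ i ∈ O, t i = 0 := by
    have h1 : 0 ≤ ∑ i ∈ O, t i := Finset.sum_nonneg ht0
    omega
  have hAO' : ∀ i ∈ O, A h i * A h i = 4 := fun i hi => by
    rw [ht i hi, (Finset.sum_eq_zero_iff_of_nonneg ht0).1 hT i hi]; norm_num
  rw [hT] at hrow
  have hAE' : ∀ i ∈ E, A h i = 4 ∨ A h i = -4 ∨ A h i = 0 := fun i hi => by
    have hle := Finset.single_le_sum (f := fun i => A h i * A h i) (fun i _ => mul_self_nonneg _) hi
    have h32 : A h i * A h i ≤ 32 := by linarith [show (8 : ℤ) ≤ O.card by exact_mod_cast hkO]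
    have h4 := hAE i hi
    have : A h i < 6 ∧ -6 < A h i := ⟨by nlinarith, by nlinarith⟩
    omega
  -- the signs
  obtain ⟨s, hsdef⟩ : ∃ s : ι → ℤ, ∀ i ∈ O, (s i = 1 ∨ s i = -1) ∧ A h i = s i * (d h * d i) := by
    refine ⟨fun i => if A h i = d h * d i then 1 else -1, fun i hi => ?_⟩
    have h4 : A h i = 2 ∨ A h i = -2 := by
      have := hAO' i hi
      have : A h i * A h i = 2 * 2 := by linarith
      exact mul_self_eq_mul_self_iff.1 this
    dsimp only
    split_ifs with hc
    · exact ⟨Or.inl rfl, by rw [hc, one_mul]⟩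
    · refine ⟨Or.inr rfl, ?_⟩
      rcases (hO' i).1 hi with e | e <;> rcases hh with e' | e' <;> rw [e, e'] at hc ⊢ <;> omega
  -- the reduced matrix
  set F : ι → ι → ℤ := fun i j => 4 * A i j - A h i * A h j with hF
  have hFs : ∀ i j, F i j = F j i := fun i j => by simp only [hF]; rw [hA.symm i j]; ring
  have hFsq : ∀ i, ∑ l, F i l * F i l = 64 * F i i := fun i => by
    have h2 : ∀ j, ∑ l, A j l * A h l = 16 * A h j := fun j => by
      rw [hA.sq, hA.symm]
    have e : ∀ l, F i l * F i l = 16 * (A i l * A i l) - 8 * A h i * (A i l * A h l) +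
        A h i * A h i * (A h l * A h l) := fun l => by simp only [hF]; ring
    rw [Finset.sum_congr rfl fun l _ => e l, Finset.sum_add_distrib, Finset.sum_sub_distrib,
      ← Finset.mul_sum, ← Finset.mul_sum, ← Finset.mul_sum, hA.sq, h2, hA.sq, hdiag h hh]
    simp only [hF]; ring
  have hFd : ∀ i, ∑ l, F i l * d l = 0 := fun i => by
    have e : ∀ l, F i l * d l = 4 * (A i l * d l) - A h i * (A h l * d l) := fun l => by
      simp only [hF]; ring
    rw [Finset.sum_congr rfl fun l _ => e l, Finset.sum_sub_distrib, ← Finset.mul_sum,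
      ← Finset.mul_sum, hA.orth, hA.orth]
    ring
  have hFu : ∀ i, ∑ l, F i l * A h l = 0 := fun i => by
    have e : ∀ l, F i l * A h l = 4 * (A i l * A h l) - A h i * (A h l * A h l) := fun l => by
      simp only [hF]; ring
    rw [Finset.sum_congr rfl fun l _ => e l, Finset.sum_sub_distrib, ← Finset.mul_sum,
      ← Finset.mul_sum, hA.sq, hA.sq, hdiag h hh, hA.symm i h]
    ring
  have hFtr : ∑ i, F i i = 128 := by
    simp only [hF]
    rw [Finset.sum_sub_distrib, ← Finset.mul_sum, hA.trace, hA.sq, hdiag h hh]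
    norm_num
  have hFdiag : ∀ i ∈ O, 8 ≤ F i i ∧ (16 : ℤ) ∣ F i i - 8 := fun i hi => by
    have h0 := hA.nonneg i
    have h4 := hA.congr i i
    simp only [hF, hAO' i hi]
    rcases (hO' i).1 hi with e | e <;> rw [e] at h4 <;> omega
  have hFE : ∀ i ∈ E, ∀ j, F j i = 0 := by
    intro i hi j
    have hz : F i i = 0 := by
      have hsame : A h i * A h i = 16 := by
        rcases eq_or_ne i h with rfl | hne
        · rw [hdiag i hh]; norm_num
        · have hE2 : E.card = 2 := by
            have h2 : 2 ≤ E.card := Finset.one_lt_card.2 ⟨i, hi, h, hhE, hne⟩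
            omega
          have hO8 : (O.card : ℤ) = 8 := by omega
          have hEeq : E = {i, h} := (Finset.eq_of_subset_of_card_le (by
            intro l hl
            rcases Finset.mem_insert.1 hl with rfl | hl
            · exact hi
            · exact Finset.mem_singleton.1 hl ▸ hhE)
            (by rw [Finset.card_pair hne]; omega)).symm
          rw [hEeq, Finset.sum_pair hne, hdiag h hh, hO8] at hrow
          linarith
      simp only [hF, hdiag i ((hE' i).1 hi), hsame]
      norm_num
    have h' := hFsq i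
    rw [hz, mul_zero, Finset.sum_eq_zero_iff_of_nonneg fun l _ => mul_self_nonneg _] at h'
    rw [hFs]
    exact mul_self_eq_zero.1 (h' j (Finset.mem_univ j))
  have hsumO : ∀ f : ι → ℤ, (∀ i ∈ E, f i = 0) → ∑ i, f i = ∑ i ∈ O, f i := fun f hf => by
    rw [hsplit, Finset.sum_eq_zero (s := E) hf, add_zero]
  -- a short row has a class of eight
  have hclass : ∀ i ∈ O, F i i = 8 → (O.filter fun j => s j = s i).card = 8 := by
    intro i hi hFi
    have hdiv : ∀ j ∈ O, ∃ g : ℤ, F i j = 8 * g ∧ (s j = s i ↔ ¬ (2 : ℤ) ∣ g) := by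
      intro j hj
      obtain ⟨c, hc⟩ := hA.congr i j
      have hA' : A i j = 4 * c - d i * d j := by linarith
      have hFij : F i j = 16 * c - 4 * (d i * d j) - (s i * (d h * d i)) * (s j * (d h * d j)) := by
        simp only [hF, (hsdef i hi).2, (hsdef j hj).2, hA']; ring
      have hdh : d h * d h = 4 := by rcases hh with e | e <;> rw [e] <;> norm_num
      have hx : d i * d j = 1 ∨ d i * d j = -1 := by
        rcases (hO' i).1 hi with e | e <;> rcases (hO' j).1 hj with e' | e' <;> simp [e, e']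
      have hss : s i * s i = 1 := by rcases (hsdef i hi).1 with e | e <;> simp [e]
      by_cases hc' : s j = s i
      · refine ⟨2 * c - d i * d j, ?_, iff_of_true hc' ?_⟩
        · rw [hFij, hc']
          linear_combination (-(d i * d j * (d h * d h))) * hss + (-(d i * d j)) * hdh
        · rcases hx with e | e <;> rw [e] <;> omega
      · have hneg : s j = -s i := by
          rcases (hsdef i hi).1 with e | e <;> rcases (hsdef j hj).1 with e' | e' <;> omega
        refine ⟨2 * c, ?_, iff_of_false hc' (by omega)⟩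
        rw [hFij, hneg]
        linear_combination (d i * d j * (d h * d h)) * hss + (d i * d j) * hdh
    choose! g hg hgs using hdiv
    have hgd : ∑ j ∈ O, g j * d j = 0 := by
      have h1 := hFd i
      rw [hsumO _ fun j hj => by rw [hFE j hj i, zero_mul],
        Finset.sum_congr rfl fun j hj => show F i j * d j = 8 * (g j * d j) by rw [hg j hj]; ring,
        ← Finset.mul_sum] at h1
      linarith
    have hgsd : ∑ j ∈ O, s j * (g j * d j) = 0 := by
      have h1 := hFu i
      rw [hsumO _ fun j hj => by rw [hFE j hj i, zero_mul],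
        Finset.sum_congr rfl fun j hj => show F i j * A h j = 8 * d h * (s j * (g j * d j)) by
          rw [hg j hj, (hsdef j hj).2]; ring,
        ← Finset.mul_sum] at h1
      rcases hh with e | e <;> rw [e] at h1 <;> linarith
    set X := O.filter fun j => s j = s i with hX
    set Y := O.filter fun j => ¬ s j = s i with hY
    have hsplitO : ∀ f : ι → ℤ, ∑ j ∈ O, f j = ∑ j ∈ X, f j + ∑ j ∈ Y, f j := fun f =>
      (Finset.sum_filter_add_sum_filter_not _ _ f).symm
    rw [hsplitO] at hgd hgsd
    rw [Finset.sum_congr rfl (s₁ := X) fun j hj => show s j * (g j * d j) = s i * (g j * d j) by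
        rw [(Finset.mem_filter.1 hj).2],
      Finset.sum_congr rfl (s₁ := Y) fun j hj => show s j * (g j * d j) = -s i * (g j * d j) by
        obtain ⟨hj1, hj2⟩ := Finset.mem_filter.1 hj
        rw [show s j = -s i by
          rcases (hsdef i hi).1 with e | e <;> rcases (hsdef j hj1).1 with e' | e' <;> omega],
      ← Finset.mul_sum, ← Finset.mul_sum] at hgsd
    have hXsum : ∑ j ∈ X, g j * d j = 0 := by
      rcases (hsdef i hi).1 with e | e <;> rw [e] at hgsd <;> linarith
    have hYsum : ∑ j ∈ Y, g j * d j = 0 := by linarith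
    have hsq : ∑ j ∈ O, g j * g j = 8 := by
      have h1 := hFsq i
      rw [hsumO _ fun j hj => by rw [hFE j hj i, zero_mul],
        Finset.sum_congr rfl fun j hj => show F i j * F i j = 64 * (g j * g j) by rw [hg j hj]; ring,
        ← Finset.mul_sum, hFi] at h1
      linarith
    rw [hsplitO] at hsq
    have hdd : ∀ j ∈ O, d j * d j = 1 := fun j hj => by
      rcases (hO' j).1 hj with e | e <;> rw [e] <;> norm_num
    choose! u hu0 hu using fun j (hj : j ∈ X) =>
      odd_sq ((hgs j (Finset.mem_filter.1 hj).1).1 (Finset.mem_filter.1 hj).2)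
    have hXeven : (2 : ℤ) ∣ X.card := by
      have h1 := sum_sub_even X fun j => g j * d j
      rw [hXsum, sub_zero, Finset.sum_congr rfl fun j hj =>
        show g j * d j * (g j * d j) = 1 + 8 * u j by
          rw [← hu j hj]
          linear_combination (g j * g j) * hdd j (Finset.mem_filter.1 hj).1,
        Finset.sum_add_distrib, Finset.sum_const, ← Finset.mul_sum, nsmul_eq_mul, mul_one] at h1
      omega
    have hYg : ∀ j ∈ Y, ∃ w, g j = 2 * w := fun j hj => by
      obtain ⟨hj1, hj2⟩ := Finset.mem_filter.1 hj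
      have := hgs j hj1
      exact ⟨g j / 2, by omega⟩
    choose! w hw using hYg
    have hY8 : (8 : ℤ) ∣ ∑ j ∈ Y, g j * g j := by
      have h1 := sum_sub_even Y fun j => w j * d j
      have h2 : ∑ j ∈ Y, w j * d j = 0 := by
        rw [Finset.sum_congr rfl fun j hj => show g j * d j = 2 * (w j * d j) by rw [hw j hj]; ring,
          ← Finset.mul_sum] at hYsum
        linarith
      rw [h2, sub_zero, Finset.sum_congr rfl fun j hj =>
        show w j * d j * (w j * d j) = w j * w j by
          linear_combination (w j * w j) * hdd j (Finset.mem_filter.1 hj).1] at h1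
      rw [Finset.sum_congr rfl fun j hj => show g j * g j = 4 * (w j * w j) by rw [hw j hj]; ring,
        ← Finset.mul_sum]
      exact mul_dvd_mul_left 4 h1
    have hY0 : 0 ≤ ∑ j ∈ Y, g j * g j := Finset.sum_nonneg fun j _ => mul_self_nonneg _
    rw [Finset.sum_congr rfl (s₁ := X) hu, Finset.sum_add_distrib, Finset.sum_const, ← Finset.mul_sum,
      nsmul_eq_mul, mul_one] at hsq
    have hu' : 0 ≤ ∑ j ∈ X, u j := Finset.sum_nonneg hu0
    have hX1 : 1 ≤ X.card := Finset.card_pos.2 ⟨i, Finset.mem_filter.2 ⟨hi, rfl⟩⟩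
    omega
  have hshort : ∃ i ∈ O, F i i = 8 := by
    by_contra hno
    push Not at hno
    have h24 : ∀ i ∈ O, (24 : ℤ) ≤ F i i := fun i hi => by
      have := hFdiag i hi
      have := hno i hi
      omega
    have h1 := Finset.card_nsmul_le_sum O _ _ h24
    rw [nsmul_eq_mul, ← hsumO _ fun i hi => hFE i hi i, hFtr] at h1
    omega
  obtain ⟨i₀, hi₀, hF₀⟩ := hshort
  have hX8 := hclass i₀ hi₀ hF₀
  have hall : ∀ i ∈ O, s i = s i₀ := by
    by_contra hne
    push Not at hne
    obtain ⟨j₀, hj₀, hjs⟩ := hne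
    have hXY := Finset.card_filter_add_card_filter_not (s := O) (fun j => s j = s i₀)
    have hY : ∀ j ∈ O.filter (fun j => ¬ s j = s i₀), (24 : ℤ) ≤ F j j := fun j hj => by
      obtain ⟨hj1, hj2⟩ := Finset.mem_filter.1 hj
      have hne8 : F j j ≠ 8 := fun e => by
        have hd8 := hclass j hj1 e
        have hsub : (O.filter fun l => s l = s j) ⊆ O.filter fun l => ¬ s l = s i₀ := fun l hl => by
          obtain ⟨hl1, hl2⟩ := Finset.mem_filter.1 hl
          exact Finset.mem_filter.2 ⟨hl1, fun h' => hj2 (hl2 ▸ h')⟩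
        have := Finset.card_le_card hsub
        omega
      have := hFdiag j hj1
      omega
    have h1 := Finset.card_nsmul_le_sum _ _ _ hY
    have h2 := Finset.card_nsmul_le_sum (O.filter fun j => s j = s i₀) (fun i => F i i) 8
      (fun j hj => (hFdiag j (Finset.mem_filter.1 hj).1).1)
    have h3 : 1 ≤ (O.filter fun j => ¬ s j = s i₀).card :=
      Finset.card_pos.2 ⟨j₀, Finset.mem_filter.2 ⟨hj₀, hjs⟩⟩
    rw [hsumO _ (fun i hi => hFE i hi i),
      ← Finset.sum_filter_add_sum_filter_not O (fun j => s j = s i₀)] at hFtr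
    simp only [nsmul_eq_mul, hX8] at h1 h2
    omega
  have hO8 : O.card = 8 := by
    rw [← hX8]
    exact congrArg Finset.card (Finset.filter_true_of_mem hall).symm
  have hs : s i₀ = -1 := by
    have h1 := hA.orth h
    rw [hsplit, Finset.sum_congr rfl (s₁ := O) fun i hi => show A h i * d i = s i₀ * d h by
      rw [(hsdef i hi).2, hall i hi]
      rcases (hO' i).1 hi with e | e <;> rw [e] <;> ring, Finset.sum_const, hO8] at h1
    have hE2 : E.card = 2 := by omega
    obtain ⟨a, b, hab, hEeq⟩ := Finset.card_eq_two.1 hE2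
    rw [hEeq, Finset.sum_pair hab] at h1
    have hne : ∀ x ∈ E, x = a ∨ x = b := fun x hx => by simpa [hEeq] using hx
    have ha : a ∈ E := by simp [hEeq]
    have hb : b ∈ E := by simp [hEeq]
    have hhab : h = a ∨ h = b := hne h hhE
    rcases (hsdef i₀ hi₀).1 with e | e
    · exfalso
      rw [e] at h1
      rcases hhab with rfl | rfl
      · rw [hdiag h hh] at h1
        rcases hh with e' | e' <;> rcases (hE' b).1 hb with f | f <;>
          rcases hAE' b hb with g | g | g <;> rw [e', f, g] at h1 <;> norm_num at h1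
      · rw [hdiag h hh] at h1
        rcases hh with e' | e' <;> rcases (hE' a).1 ha with f | f <;>
          rcases hAE' a ha with g | g | g <;> rw [e', f, g] at h1 <;> norm_num at h1
    · exact e
  exact ⟨hO8, fun i hi => by rw [(hsdef i ((hO' i).2 hi)).2, hall i ((hO' i).2 hi), hs]; ring,
    fun i hi => hAE' i ((hE' i).2 hi)⟩

/-- All values are odd. -/
theorem card_eq_sixteen {m A B : ι → ι → ℤ} (hA : Side A d) (hB : Side B d)
    (hAB : ∀ i, ∑ l, A i l * B i l = 0)
    (hsum : ∀ i, m i i + A i i + B i i + d i * d i = 16) (hm : ∀ i, 0 < m i i)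
    (hd0 : ∀ i, d i ≠ 0) {o : ι} (ho : d o = 1) (hd2 : ∑ i, d i * d i = 16)
    (hk : 9 ≤ Fintype.card ι) : Fintype.card ι = 16 := by
  classical
  have h1 : ∀ i, 1 ≤ d i * d i := fun i => by
    have := mul_self_pos.2 (hd0 i); omega
  have hd : ∀ i, d i = 1 ∨ d i = -1 ∨ d i = 2 ∨ d i = -2 := fun i => by
    have hle : ∑ j ∈ Finset.univ.erase i, (1 : ℤ) ≤ ∑ j ∈ Finset.univ.erase i, d j * d j :=
      Finset.sum_le_sum fun j _ => h1 j
    rw [← Finset.add_sum_erase _ _ (Finset.mem_univ i)] at hd2
    rw [Finset.sum_const, Finset.card_erase_of_mem (Finset.mem_univ i), Finset.card_univ,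
      nsmul_eq_mul, mul_one] at hle
    have h8 : d i * d i ≤ 8 := by omega
    have : d i < 3 ∧ -3 < d i := ⟨by nlinarith, by nlinarith⟩
    have := hd0 i
    omega
  by_cases hall : ∀ i, d i * d i = 1
  · rw [Finset.sum_congr rfl fun i _ => hall i, Finset.sum_const, Finset.card_univ, nsmul_eq_mul,
      mul_one] at hd2
    omega
  exfalso
  push Not at hall
  obtain ⟨h, hh'⟩ := hall
  have hh : d h = 2 ∨ d h = -2 := by
    rcases hd h with e | e | e | e <;> simp [e] at hh' ⊢
  have hdiag : ∀ i, d i = 2 ∨ d i = -2 → A i i = 4 ∧ B i i = 4 := fun i hi => by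
    have a := hA.pos_of_two ho hi
    have b := hB.pos_of_two ho hi
    have a4 := hA.congr i i
    have b4 := hB.congr i i
    have hs := hsum i
    have := hm i
    rcases hi with e | e <;> rw [e] at a4 b4 hs <;> omega
  obtain ⟨hO8, hAh, hAE⟩ := row_sign d hd hd2 hk hA (fun i hi => (hdiag i hi).1) hh
  obtain ⟨-, hBh, hBE⟩ := row_sign d hd hd2 hk hB (fun i hi => (hdiag i hi).2) hh
  have h0 := hAB h
  rw [← Finset.sum_filter_add_sum_filter_not Finset.univ (fun i => d i = 1 ∨ d i = -1),
    Finset.sum_congr rfl (s₁ := Finset.univ.filter fun i => d i = 1 ∨ d i = -1) fun i hi =>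
      show A h i * B h i = 4 by
        have hi' := (Finset.mem_filter.1 hi).2
        rw [hAh i hi', hBh i hi']
        rcases hi' with e | e <;> rcases hh with e' | e' <;> rw [e, e'] <;> norm_num,
    Finset.sum_const, hO8] at h0
  set E := Finset.univ.filter (fun i => ¬ (d i = 1 ∨ d i = -1)) with hE
  have hhE : h ∈ E := Finset.mem_filter.2 ⟨Finset.mem_univ _, by omega⟩
  rw [← Finset.add_sum_erase _ _ hhE, (hdiag h hh).1, (hdiag h hh).2] at h0
  have hb : ∀ i ∈ E.erase h, -16 ≤ A h i * B h i := fun i hi => by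
    have hi2 : d i = 2 ∨ d i = -2 := by
      have := (Finset.mem_filter.1 (Finset.mem_of_mem_erase hi)).2
      rcases hd i with e | e | e | e <;> omega
    rcases hAE i hi2 with e | e | e <;> rcases hBE i hi2 with e' | e' | e' <;> rw [e, e'] <;> norm_num
  have hle := Finset.card_nsmul_le_sum _ _ _ hb
  rw [Finset.card_erase_of_mem hhE] at hle
  have hE2 : E.card ≤ 2 := by
    have h1 : (Finset.univ.filter fun i => d i = 1 ∨ d i = -1).card + E.card = Fintype.card ι := by
      rw [hE, Finset.card_filter_add_card_filter_not, Finset.card_univ]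
    rw [← Finset.sum_filter_add_sum_filter_not Finset.univ (fun i => d i = 1 ∨ d i = -1),
      Finset.sum_congr rfl (s₁ := Finset.univ.filter fun i => d i = 1 ∨ d i = -1) fun i hi =>
        show d i * d i = 1 by rcases (Finset.mem_filter.1 hi).2 with e | e <;> rw [e] <;> norm_num,
      Finset.sum_congr rfl (s₁ := E) fun i hi => show d i * d i = 4 by
        have := (Finset.mem_filter.1 hi).2
        rcases hd i with e | e | e | e <;> simp [e] at this ⊢] at hd2
    simp only [Finset.sum_const, nsmul_eq_mul, hO8] at hd2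
    omega
  simp only [nsmul_eq_mul] at h0 hle
  push_cast at h0
  omega

end Cfsg.Lib.Blocks.SixteenNine
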