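import Cfsg.Agent.Blocks.SixteenNine.Rank
import Cfsg.Agent.Blocks.SixteenNine.Arith

/-!
# The principal block with an elementary Sylow subgroup of order sixteen and inertial index nine
-/

set_option autoImplicit false
set_option linter.unusedSectionVars false
set_option linter.style.haveILetI false

namespace Cfsg.Lib.Blocks.SixteenNine

open Cfsg.Lib.Chars Cfsg.Lib.Blocks Cfsg.Lib.Blocks.Star Cfsg.Lib.Blocks.PrincipalStar
open scoped _root_.Classical ComplexConjugate

universe u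

local notation "C⟨" P "⟩" => Subgroup.centralizer (SetLike.coe P)

variable {G : Type u} [Group G] [Fintype G] {M : Ideal AlgInt} {p : ℕ}

lemma conj_mat (S : Subgroup G) (f : G → ℂ) (η χ : IrrCharacter G) :
    conj (mat p M S f η χ) = mat p M S (fun g => conj (f g)) χ η := by
  simp only [mat, map_sum, map_mul, wt, map_div₀, map_natCast, kk, secDot, map_inv₀, Complex.conj_conj]
  refine Finset.sum_congr rfl fun y _ => ?_
  congr 2
  exact Finset.sum_congr rfl fun w _ => mul_comm _ _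

lemma Split.symm {S V W : Subgroup G} (h : Split S V W) : Split S W V :=
  ⟨h.leW, h.leV, h.cardW, h.cardV, by rw [inf_comm, h.inf], h.invW, h.invV, h.fixW, h.fixV,
    fun y hy => h.stab y hy.symm, fun y hy h₁ h₂ => h.free y hy h₂ h₁,
    fun y hy h₁ h₂ y' hy' h₁' h₂' => h.trans y hy h₂ h₁ y' hy' h₂' h₁'⟩

section

variable [Fact (Nat.Prime 2)] (S : Sylow 2 G)

/-- The sum of the three sign characters. -/
theorem exists_psi (hab : ∀ a ∈ (S : Subgroup G), ∀ b ∈ (S : Subgroup G), a * b = b * a)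
    (hel : ∀ a ∈ (S : Subgroup G), a * a = 1) (hS : Nat.card (S : Subgroup G) = 16)
    {V W : Subgroup G} (h : Split (S : Subgroup G) V W) :
    Good S fun g => if g ∈ W then (3 : ℂ) else -1 := by
  refine ⟨?_, fun t ht y _ => ?_⟩
  · obtain ⟨pr, lam, hlam, hpr⟩ := exists_signs hab hel hS h.leV h.leW h.cardV h.cardW h.inf
    have hW' : ∀ y : (S : Subgroup G), pr y = 1 ↔ (y : G) ∈ W := fun y => by
      constructor
      · intro e
        simpa [e] using (hlam 1 y).1
      · intro e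
        simpa using hpr 1 ⟨y, e⟩
    have hfun : (fun y : (S : Subgroup G) => if (y : G) ∈ W then (3 : ℂ) else -1) =
        fun y => ∑ v ∈ Finset.univ.erase (1 : V), ((lam v y : ℂˣ) : ℂ) := by
      funext y
      have h3 : (Finset.univ.erase (1 : V)).card = 3 := by
        rw [Finset.card_erase_of_mem (Finset.mem_univ _), Finset.card_univ,
          ← Nat.card_eq_fintype_card, h.cardV]
      rw [Finset.sum_congr rfl fun v hv => (hlam v y).2 (Finset.ne_of_mem_erase hv)]
      by_cases hy : pr y = 1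
      · simp only [hy, true_or, if_true, if_pos ((hW' y).1 hy), Finset.sum_const, h3]
        norm_num
      · simp only [hy, false_or, if_neg (fun e => hy ((hW' y).2 e))]
        rw [← Finset.add_sum_erase _ _ (Finset.mem_erase.2 ⟨hy, Finset.mem_univ _⟩), if_pos rfl,
          Finset.sum_congr rfl fun v hv => if_neg (Finset.ne_of_mem_erase hv).symm, Finset.sum_const,
          Finset.card_erase_of_mem (Finset.mem_erase.2 ⟨hy, Finset.mem_univ _⟩), h3]
        norm_num
    rw [hfun]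
    have hsum := IsGeneralizedCharacter.sum (G := (S : Subgroup G)) (Finset.univ.erase (1 : V))
      (fun v y => ((lam v y : ℂˣ) : ℂ)) fun v _ => IsCharacter.isGeneralized (isCharacter_linear (lam v))
    convert hsum using 1
    funext y
    simp [Finset.sum_apply]
  · have hiff : t * y * t⁻¹ ∈ W ↔ y ∈ W := ⟨fun hy => by
      simpa [mul_assoc] using h.invW t⁻¹ (inv_mem ht) _ hy, h.invW t ht y⟩
    simp only [hiff]

variable {S}

lemma good_const_add {f : G → ℂ} (hf : Good S f) (n : ℤ) : Good S fun g => (n : ℂ) + f g :=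
  ⟨by
    have h1 := IsGeneralizedCharacter.zsmul (good_one S).gen n
    have h2 := IsGeneralizedCharacter.add h1 hf.gen
    convert h2 using 1
    funext y
    simp, fun t ht y hy => by rw [hf.inv t ht y hy]⟩

lemma good_const_sub {f : G → ℂ} (hf : Good S f) (n : ℤ) : Good S fun g => (n : ℂ) - f g :=
  ⟨by
    have h1 := IsGeneralizedCharacter.zsmul (good_one S).gen n
    have h2 := IsGeneralizedCharacter.sub h1 hf.gen
    convert h2 using 1
    funext y
    simp, fun t ht y hy => by rw [hf.inv t ht y hy]⟩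

variable (hM : IsPModular 2 M) (hab : ∀ a ∈ (S : Subgroup G), ∀ b ∈ (S : Subgroup G), a * b = b * a)
  (hel : ∀ a ∈ (S : Subgroup G), a * a = 1) (hS : Nat.card (S : Subgroup G) = 16)
  {V W : Subgroup G} (h : Split (S : Subgroup G) V W)
  (he : Nat.card (Subgroup.centralizer ((S : Subgroup G) : Set G)) * 9 =
    Nat.card (Subgroup.normalizer ((S : Subgroup G) : Set G)))

include hab hel hS h he

lemma inf_generic {y : G} (hy : y ∈ (S : Subgroup G)) (hV : y ∉ V) (hW : y ∉ W) :
    Subgroup.normalizer ((S : Subgroup G) : Set G) ⊓ Subgroup.centralizer ({y} : Set G) =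
      Subgroup.centralizer ((S : Subgroup G) : Set G) := by
  ext t
  rw [Subgroup.mem_inf, Subgroup.mem_centralizer_singleton_iff]
  exact ⟨fun ht => h.free y hy hV hW t ht.1 ht.2,
    fun ht => ⟨Subgroup.centralizer_le_normalizer _ ht, (Subgroup.mem_centralizer_iff.1 ht y hy).symm⟩⟩

lemma wt_generic {y : G} (hy : y ∈ (S : Subgroup G)) (hV : y ∉ V) (hW : y ∉ W) :
    wt (S : Subgroup G) y = 1 / 9 := by
  rw [wt, centralizer_zpowers, inf_generic hab hel hS h he hy hV hW, ← he, Nat.cast_mul, Nat.cast_ofNat,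
    div_mul_eq_div_div, div_self (Nat.cast_ne_zero.2 Nat.card_pos.ne')]

lemma wt_axis {y : G} (hy : y ∈ V ∨ y ∈ W) (hy1 : y ≠ 1) : wt (S : Subgroup G) y = 1 / 3 := by
  rw [wt, centralizer_zpowers, ← h.stab y hy hy1, Nat.cast_mul, Nat.cast_ofNat,
    div_mul_eq_div_div, div_self (Nat.cast_ne_zero.2 Nat.card_pos.ne')]

lemma free_beside {a y : G} (ha : a ∈ V) (ha1 : a ≠ 1) (hy : y ∈ (S : Subgroup G)) (hyV : y ∉ V)
    {t : G} (ht : t ∈ Subgroup.normalizer ((S : Subgroup G) : Set G)) (hta : t * a = a * t)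
    (hty : t * y = y * t) : t ∈ Subgroup.centralizer ((S : Subgroup G) : Set G) := by
  by_cases hyW : y ∈ W
  · refine h.free (a * y) ((S : Subgroup G).mul_mem (h.leV ha) hy)
      (fun hc => hyV ((Subgroup.mul_mem_cancel_left _ ha).1 hc))
      (fun hc => ha1 (Subgroup.mem_bot.1 (h.inf ▸ ⟨ha, (Subgroup.mul_mem_cancel_right _ hyW).1 hc⟩)))
      t ht ?_
    rw [← mul_assoc, hta, mul_assoc, hty, mul_assoc]
  · exact h.free y hy hyV hyW t ht hty

include hM

set_option maxHeartbeats 1000000 in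
lemma rank_axis {a : G} (ha : a ∈ V) (ha1 : a ≠ 1) : blockRank 2 (pb M a) = 3 := by
  have haS := h.leV ha
  set H := C⟨Subgroup.zpowers a⟩ with hH
  have hle : (S : Subgroup G) ≤ H := le_centralizer_zpowers hab haS
  have hcomm : ∀ t : G, t ∈ H ↔ t * a = a * t := fun t => by
    rw [hH, centralizer_zpowers, Subgroup.mem_centralizer_singleton_iff]
  set N := Subgroup.normalizer ((S : Subgroup G) : Set G) with hN
  have hmem : ∀ x : H, x ∈ ((S.subtype hle : Sylow 2 H) : Subgroup H) ↔ (x : G) ∈ (S : Subgroup G) :=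
    fun x => by rw [Sylow.coe_subtype, Subgroup.mem_subgroupOf]
  have hcard : ∀ X : Subgroup G, X ≤ H → Nat.card (X.subgroupOf H) = Nat.card X := fun X hX =>
    Nat.card_congr (Subgroup.subgroupOfEquivOfLe hX).toEquiv
  have hNH : Subgroup.normalizer (((S.subtype hle : Sylow 2 H) : Subgroup H) : Set H) =
      (N ⊓ Subgroup.centralizer ({a} : Set G)).subgroupOf H := by
    ext t
    rw [mem_normalizer_subtype, Subgroup.mem_subgroupOf, Subgroup.mem_inf,
      Subgroup.mem_centralizer_singleton_iff]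
    exact ⟨fun ht => ⟨ht, (hcomm t).1 t.2⟩, fun ht => ht.1⟩
  have hNle : N ⊓ Subgroup.centralizer ({a} : Set G) ≤ H := fun t ht => by
    rw [hH, centralizer_zpowers]
    exact ht.2
  refine rank_three (V := V.subgroupOf H) (W := W.subgroupOf H) hM (S.subtype hle)
    (fun x hx y hy => Subtype.ext (hab _ ((hmem x).1 hx) _ ((hmem y).1 hy)))
    (fun x hx => Subtype.ext (hel _ ((hmem x).1 hx)))
    (by rw [Sylow.coe_subtype, hcard _ hle, hS])
    (fun x hx => (hmem x).2 (h.leV hx)) (fun x hx => (hmem x).2 (h.leW hx))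
    (by rw [hcard _ (h.leV.trans hle), h.cardV]) (by rw [hcard _ (h.leW.trans hle), h.cardW])
    ?_ ?_ ?_ ?_ ?_ ?_
  · ext x
    rw [Subgroup.mem_inf, Subgroup.mem_subgroupOf, Subgroup.mem_subgroupOf, ← Subgroup.mem_inf, h.inf,
      Subgroup.mem_bot, Subgroup.mem_bot, Subtype.ext_iff, Subgroup.coe_one]
  · intro t ht v hv
    exact Subtype.ext (h.fixV a ha ha1 t ((mem_normalizer_subtype S hle t).1 ht) ((hcomm t).1 t.2) v hv)
  · intro t ht w hw
    exact h.invW t ((mem_normalizer_subtype S hle t).1 ht) w hw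
  · intro y hy hyV t ht hty
    have htc := free_beside hab hel hS h he ha ha1 ((hmem y).1 hy) hyV
      ((mem_normalizer_subtype S hle t).1 ht) ((hcomm t).1 t.2) (congrArg Subtype.val hty)
    exact Subgroup.mem_centralizer_iff.2 fun x hx =>
      Subtype.ext (Subgroup.mem_centralizer_iff.1 htc x ((hmem x).1 hx))
  · intro y hy hyV
    have heq : Subgroup.normalizer (((S.subtype hle : Sylow 2 H) : Subgroup H) : Set H) ⊓
        C⟨Subgroup.zpowers y⟩ = (Subgroup.centralizer ((S : Subgroup G) : Set G)).subgroupOf H := by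
      ext t
      rw [Subgroup.mem_inf, mem_normalizer_subtype, Subgroup.mem_subgroupOf, centralizer_zpowers,
        Subgroup.mem_centralizer_singleton_iff]
      refine ⟨fun ht => free_beside hab hel hS h he ha ha1 ((hmem y).1 hy) hyV ht.1 ((hcomm t).1 t.2)
        (congrArg Subtype.val ht.2), fun ht => ⟨Subgroup.centralizer_le_normalizer _ ht,
          Subtype.ext (Subgroup.mem_centralizer_iff.1 ht y ((hmem y).1 hy)).symm⟩⟩
    have h1 := h.stab a (Or.inl ha) ha1
    rw [wt, heq, hNH, hcard _ hNle, hcard _ (fun t ht => (hcomm t).2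
      (Subgroup.mem_centralizer_iff.1 ht a haS).symm)]
    rw [← he] at h1
    have h2 : Nat.card (N ⊓ Subgroup.centralizer ({a} : Set G) : Subgroup G) =
        Nat.card (Subgroup.centralizer ((S : Subgroup G) : Set G)) * 3 := by linarith
    rw [h2, Nat.cast_mul, Nat.cast_ofNat, div_mul_eq_div_div,
      div_self (Nat.cast_ne_zero.2 Nat.card_pos.ne')]
  · intro hle'
    have h1 := h.stab a (Or.inl ha) ha1
    have h2 : N ⊓ Subgroup.centralizer ({a} : Set G) ≤ Subgroup.centralizer ((S : Subgroup G) : Set G) := by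
      intro t ht
      refine Subgroup.mem_centralizer_iff.2 fun x hx => ?_
      have := Subgroup.mem_centralizer_iff.1 (hle' (x := ⟨t, hNle ht⟩) (by
        rw [hNH]; exact ht)) ⟨x, hle hx⟩ ((hmem _).2 hx)
      exact congrArg Subtype.val this
    have h3 := Subgroup.card_le_of_le h2
    rw [← he] at h1
    have := Nat.card_pos (α := Subgroup.centralizer ((S : Subgroup G) : Set G))
    linarith

set_option maxHeartbeats 2000000 in
/-- Sixteen characters and rank nine. -/
theorem invariants : Nat.card (principalBlock M G) = 16 ∧ blockRank 2 (principalBlock M G) = 9 := by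
  have hne : ∀ X : Subgroup G, Nat.card X = 4 → ∃ x ∈ X, x ≠ 1 := fun X hX => by
    haveI : Nontrivial X := Finite.one_lt_card_iff_nontrivial.1 (by rw [hX]; norm_num)
    obtain ⟨x, hx⟩ := exists_ne (1 : X)
    exact ⟨x, x.2, fun e => hx (Subtype.ext e)⟩
  have hbot : ∀ x, x ∈ V → x ∈ W → x = 1 := fun x h₁ h₂ => Subgroup.mem_bot.1 (h.inf ▸ ⟨h₁, h₂⟩)
  -- a generic element
  obtain ⟨a, haV, ha1⟩ := hne V h.cardV
  obtain ⟨b, hbW, hb1⟩ := hne W h.cardW
  set y₀ := a * b with hy₀
  have hy₀S : y₀ ∈ (S : Subgroup G) := (S : Subgroup G).mul_mem (h.leV haV) (h.leW hbW)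
  have hy₀V : y₀ ∉ V := fun hc => hb1 (hbot b ((Subgroup.mul_mem_cancel_left _ haV).1 hc) hbW)
  have hy₀W : y₀ ∉ W := fun hc => ha1 (hbot a haV ((Subgroup.mul_mem_cancel_right _ hbW).1 hc))
  have hcompl : ∀ y ∈ (S : Subgroup G), y ∉ V → y ∉ W →
      HasNormalPComplement 2 C⟨Subgroup.zpowers y⟩ := fun y hy h₁ h₂ =>
    complement_of_free S hab hy (h.free y hy h₁ h₂)
  obtain ⟨d, hd, hd0, hd2⟩ := exists_column hM S hab hy₀S
    (orderOf_eq_prime (by rw [pow_two]; exact hel _ hy₀S) fun e => hy₀V (e ▸ one_mem V))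
    (hcompl y₀ hy₀S hy₀V hy₀W)
  have hdy : ∀ (y : G), y ∈ (S : Subgroup G) → y ∉ V → y ∉ W → ∀ χ : IrrCharacter G,
      (χ : G → ℂ) y = (d χ : ℂ) := fun y hy h₁ h₂ χ => by
    obtain ⟨t, -, rfl⟩ := h.trans y₀ hy₀S hy₀V hy₀W y hy h₁ h₂
    rw [← hd χ]
    exact isClassFunction_irr χ y₀ t
  -- the functions
  set ψ₁ : G → ℂ := fun g => if g ∈ W then 3 else -1 with hψ₁
  set ψ₂ : G → ℂ := fun g => if g ∈ V then 3 else -1 with hψ₂
  have g1 : Good S ψ₁ := exists_psi S hab hel hS h
  have g2 : Good S ψ₂ := exists_psi S hab hel hS h.symm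
  set fA : G → ℂ := fun g => if g ∈ V ∧ g ≠ 1 then 16 else 0 with hfA
  set fB : G → ℂ := fun g => if g ∈ W ∧ g ≠ 1 then 16 else 0 with hfB
  set fm : G → ℂ := fun g => if g = 1 then 16 else 0 with hfm
  set fD : G → ℂ := fun g => if g ∉ V ∧ g ∉ W then 16 else 0 with hfD
  have hcases : ∀ g : G, (g = 1) ∨ (g ≠ 1 ∧ g ∈ V ∧ g ∉ W) ∨ (g ≠ 1 ∧ g ∈ W ∧ g ∉ V) ∨
      (g ≠ 1 ∧ g ∉ V ∧ g ∉ W) := fun g => by
    have := hbot g
    tauto
  have eA : fA = fun g => (((3 : ℤ) : ℂ) - ψ₁ g) * (((1 : ℤ) : ℂ) + ψ₂ g) := funext fun g => by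
    rcases hcases g with h' | ⟨h', u, v⟩ | ⟨h', u, v⟩ | ⟨h', u, v⟩ <;>
      simp [hfA, hψ₁, hψ₂, h', *, one_mem] <;> norm_num
  have eB : fB = fun g => (((1 : ℤ) : ℂ) + ψ₁ g) * (((3 : ℤ) : ℂ) - ψ₂ g) := funext fun g => by
    rcases hcases g with h' | ⟨h', u, v⟩ | ⟨h', u, v⟩ | ⟨h', u, v⟩ <;>
      simp [hfB, hψ₁, hψ₂, h', *, one_mem] <;> norm_num
  have em : fm = fun g => (((1 : ℤ) : ℂ) + ψ₁ g) * (((1 : ℤ) : ℂ) + ψ₂ g) := funext fun g => by
    rcases hcases g with h' | ⟨h', u, v⟩ | ⟨h', u, v⟩ | ⟨h', u, v⟩ <;>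
      simp [hfm, hψ₁, hψ₂, h', *, one_mem] <;> norm_num
  have eD : fD = fun g => (((3 : ℤ) : ℂ) - ψ₁ g) * (((3 : ℤ) : ℂ) - ψ₂ g) := funext fun g => by
    rcases hcases g with h' | ⟨h', u, v⟩ | ⟨h', u, v⟩ | ⟨h', u, v⟩ <;>
      simp [hfD, hψ₁, hψ₂, h', *, one_mem] <;> norm_num
  have gA : Good S fA := eA ▸ Good.mul S (good_const_sub g1 3) (good_const_add g2 1)
  have gB : Good S fB := eB ▸ Good.mul S (good_const_add g1 1) (good_const_sub g2 3)
  have gm : Good S fm := em ▸ Good.mul S (good_const_add g1 1) (good_const_add g2 1)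
  have gD : Good S fD := eD ▸ Good.mul S (good_const_sub g1 3) (good_const_sub g2 3)
  have rA : ∀ g, conj (fA g) = fA g := fun g => by simp only [hfA]; split_ifs <;> simp [map_ofNat, Complex.conj_ofNat]
  have rB : ∀ g, conj (fB g) = fB g := fun g => by simp only [hfB]; split_ifs <;> simp [map_ofNat, Complex.conj_ofNat]
  have rm : ∀ g, conj (fm g) = fm g := fun g => by simp only [hfm]; split_ifs <;> simp [map_ofNat, Complex.conj_ofNat]
  have rD : ∀ g, conj (fD g) = fD g := fun g => by simp only [hfD]; split_ifs <;> simp [map_ofNat, Complex.conj_ofNat]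
  -- products
  set Q := fun (f : G → ℂ) (η χ : IrrCharacter G) => mat 2 M (S : Subgroup G) f η χ with hQ
  set B := Finset.univ.filter (· ∈ principalBlock M G) with hBdef
  have hprod : ∀ f f' : G → ℂ, Good S f → Good S f' → (∀ g, conj (f' g) = f' g) → ∀ (c : ℂ) (e : G → ℂ),
      (∀ g, f g * f' g = c * e g) → ∀ η ∈ B, ∀ χ ∈ B,
      ∑ θ ∈ B, Q f η θ * conj (Q f' χ θ) = c * Q e η χ := by
    intro f f' hf hf' hr c e he' η hη χ hχ
    rw [hBdef, mat_mul hM hab hf hf' (Finset.mem_filter.1 hη).2 (Finset.mem_filter.1 hχ).2]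
    show _ = c * mat 2 M (S : Subgroup G) e η χ
    rw [← mat_smul]
    exact mat_congr _ (fun y => by rw [hr, he']) η χ
  choose! zA hzA using fun η (hη : η ∈ B) χ (hχ : χ ∈ B) => exists_int_mat hM hab gA
    (Finset.mem_filter.1 hη).2 (Finset.mem_filter.1 hχ).2
  choose! zB hzB using fun η (hη : η ∈ B) χ (hχ : χ ∈ B) => exists_int_mat hM hab gB
    (Finset.mem_filter.1 hη).2 (Finset.mem_filter.1 hχ).2
  choose! zm hzm using fun η (hη : η ∈ B) χ (hχ : χ ∈ B) => exists_int_mat hM hab gm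
    (Finset.mem_filter.1 hη).2 (Finset.mem_filter.1 hχ).2
  replace hzA : ∀ η ∈ B, ∀ χ ∈ B, Q fA η χ = (zA η χ : ℂ) := hzA
  replace hzB : ∀ η ∈ B, ∀ χ ∈ B, Q fB η χ = (zB η χ : ℂ) := hzB
  replace hzm : ∀ η ∈ B, ∀ χ ∈ B, Q fm η χ = (zm η χ : ℂ) := hzm
  -- the generic part
  set Gn := Finset.univ.filter (fun y : (S : Subgroup G) => (y : G) ∉ V ∧ (y : G) ∉ W) with hGn
  set Av := Finset.univ.filter (fun y : (S : Subgroup G) => (y : G) ∈ V ∧ (y : G) ≠ 1) with hAv
  set Aw := Finset.univ.filter (fun y : (S : Subgroup G) => (y : G) ∈ W ∧ (y : G) ≠ 1) with hAw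
  have haxis : ∀ X : Subgroup G, X ≤ S → Nat.card X = 4 →
      (Finset.univ.filter (fun y : (S : Subgroup G) => (y : G) ∈ X ∧ (y : G) ≠ 1)).card = 3 := by
    intro X hX hc
    have e : (Finset.univ.filter (fun y : (S : Subgroup G) => (y : G) ∈ X)).card = 4 := by
      rw [← Fintype.card_subtype, ← Nat.card_eq_fintype_card, ← hc]
      exact Nat.card_congr ⟨fun y => ⟨y.1, y.2⟩, fun w => ⟨⟨w, hX w.2⟩, w.2⟩, fun _ => rfl,
        fun _ => rfl⟩
    rw [← Finset.filter_filter, show (Finset.univ.filter fun y : (S : Subgroup G) => (y : G) ∈ X).filter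
      (fun y : (S : Subgroup G) => (y : G) ≠ 1) = (Finset.univ.filter
        fun y : (S : Subgroup G) => (y : G) ∈ X).erase 1 by
      ext y
      simp only [Finset.mem_filter, Finset.mem_univ, true_and, Finset.mem_erase, ne_eq, Subtype.ext_iff,
        Subgroup.coe_one]
      tauto, Finset.card_erase_of_mem (by simp [one_mem]), e]
  have hAv3 : Av.card = 3 := haxis V h.leV h.cardV
  have hAw3 : Aw.card = 3 := haxis W h.leW h.cardW
  have hsplit : ∀ F : ↥(S : Subgroup G) → ℂ,
      ∑ y, F y = F 1 + ∑ y ∈ Av, F y + ∑ y ∈ Aw, F y + ∑ y ∈ Gn, F y := by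
    intro F
    simp only [hAv, hAw, hGn, Finset.sum_filter]
    rw [show F 1 = ∑ y : (S : Subgroup G), (if (y : G) = 1 then F y else 0) from by
      symm
      rw [Finset.sum_eq_single (1 : (S : Subgroup G))]
      · simp
      · intro y _ hy
        exact if_neg fun e => hy (Subtype.ext e)
      · simp, ← Finset.sum_add_distrib, ← Finset.sum_add_distrib,
      ← Finset.sum_add_distrib]
    refine Finset.sum_congr rfl fun y _ => ?_
    rcases hcases (y : G) with h' | ⟨h', u, v⟩ | ⟨h', u, v⟩ | ⟨h', u, v⟩ <;> simp [h', *, one_mem]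
  have hGn9 : Gn.card = 9 := by
    have h16 := hsplit fun _ => (1 : ℂ)
    simp only [Finset.sum_const, Finset.card_univ, ← Nat.card_eq_fintype_card, hS, hAv3, hAw3,
      nsmul_eq_mul, mul_one] at h16
    have : ((16 : ℕ) : ℂ) = ((1 + 3 + 3 + Gn.card : ℕ) : ℂ) := by push_cast; exact_mod_cast h16
    have := Nat.cast_injective this
    omega
  have hmD : ∀ η ∈ B, ∀ χ ∈ B, Q fD η χ = ((d η * d χ : ℤ) : ℂ) := by
    intro η hη χ hχ
    show mat 2 M (S : Subgroup G) fD η χ = _
    rw [mat, hsplit, Finset.sum_congr rfl (s₁ := Gn) (g := fun _ => ((d η * d χ : ℤ) : ℂ) / 9)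
      fun y hy => ?_, Finset.sum_eq_zero (s := Av) fun y hy => ?_,
      Finset.sum_eq_zero (s := Aw) fun y hy => ?_, Finset.sum_const, hGn9]
    · simp [hfD, one_mem]
      ring
    · simp [hfD, (Finset.mem_filter.1 hy).2.1]
    · simp [hfD, (Finset.mem_filter.1 hy).2.1]
    · obtain ⟨u, v⟩ := (Finset.mem_filter.1 hy).2
      rw [wt_generic hab hel hS h he y.2 u v, kk_of_complement hM y.2 hab (hcompl y y.2 u v)
        (Finset.mem_filter.1 hη).2 (Finset.mem_filter.1 hχ).2, hdy y y.2 u v, hdy y y.2 u v,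
        map_intCast, hS]
      simp only [hfD, if_pos (And.intro u v)]
      push_cast
      ring
  -- traces
  have htr : ∀ f : G → ℂ, ∑ χ ∈ B, Q f χ χ = f 1 * (blockRank 2 (principalBlock M G) : ℂ) +
      ∑ y ∈ Av, f y + ∑ y ∈ Aw, f y + ∑ y ∈ Gn, f y / 9 := by
    intro f
    show ∑ χ ∈ B, mat 2 M (S : Subgroup G) f χ χ = _
    rw [hBdef, sum_mat_self hM hab f, hsplit]
    have hw1 : wt (S : Subgroup G) (1 : G) = 1 := by
      have htop : C⟨Subgroup.zpowers (1 : G)⟩ = ⊤ := by
        rw [Subgroup.eq_top_iff']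
        intro t
        rw [centralizer_zpowers, Subgroup.mem_centralizer_singleton_iff, mul_one, one_mul]
      rw [wt, htop, inf_top_eq, div_self (Nat.cast_ne_zero.2 Nat.card_pos.ne')]
    congr 1
    congr 1
    congr 1
    · rw [OneMemClass.coe_one, hw1, rank_one_section hM S hab, mul_one]
    · refine Finset.sum_congr rfl fun y hy => ?_
      obtain ⟨u, v⟩ := (Finset.mem_filter.1 hy).2
      rw [wt_axis hab hel hS h he (Or.inl u) v, rank_axis hM hab hel hS h he u v]
      push_cast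
      ring
    · refine Finset.sum_congr rfl fun y hy => ?_
      obtain ⟨u, v⟩ := (Finset.mem_filter.1 hy).2
      rw [wt_axis hab hel hS h he (Or.inr u) v, rank_axis hM hab hel hS h.symm he u v]
      push_cast
      ring
    · refine Finset.sum_congr rfl fun y hy => ?_
      obtain ⟨u, v⟩ := (Finset.mem_filter.1 hy).2
      rw [wt_generic hab hel hS h he y.2 u v,
        show blockRank 2 (pb M (y : G)) = 1 from blockRank_principal_eq_one hM (hcompl y y.2 u v)]
      push_cast
      ring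
  have hdis : ∀ y ∈ Av, (y : G) ∉ W := fun y hy hc =>
    (Finset.mem_filter.1 hy).2.2 (hbot _ (Finset.mem_filter.1 hy).2.1 hc)
  have hdis' : ∀ y ∈ Aw, (y : G) ∉ V := fun y hy hc =>
    (Finset.mem_filter.1 hy).2.2 (hbot _ hc (Finset.mem_filter.1 hy).2.1)
  have trA : ∑ χ ∈ B, Q fA χ χ = 48 := by
    rw [htr, Finset.sum_congr rfl (s₁ := Av) fun y hy => show fA y = 16 from if_pos (Finset.mem_filter.1 hy).2,
      Finset.sum_eq_zero (s := Aw) fun y hy => show fA y = 0 from if_neg fun e => hdis' y hy e.1,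
      Finset.sum_eq_zero (s := Gn) fun y hy => show fA y / 9 = 0 by
        simp [hfA, (Finset.mem_filter.1 hy).2.1], Finset.sum_const, hAv3]
    simp [hfA]
    norm_num
  have trB : ∑ χ ∈ B, Q fB χ χ = 48 := by
    rw [htr, Finset.sum_congr rfl (s₁ := Aw) fun y hy => show fB y = 16 from if_pos (Finset.mem_filter.1 hy).2,
      Finset.sum_eq_zero (s := Av) fun y hy => show fB y = 0 from if_neg fun e => hdis y hy e.1,
      Finset.sum_eq_zero (s := Gn) fun y hy => show fB y / 9 = 0 by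
        simp [hfB, (Finset.mem_filter.1 hy).2.2], Finset.sum_const, hAw3]
    simp [hfB]
    norm_num
  set l := blockRank 2 (principalBlock M G) with hl
  have hk : B.card = l + 7 := by
    have h1 := htr fun _ => 1
    rw [Finset.sum_congr rfl fun χ hχ => (mat_one hM hab (Finset.mem_filter.1 hχ).2
      (Finset.mem_filter.1 hχ).2).trans (if_pos rfl)] at h1
    simp only [Finset.sum_const, hAv3, hAw3, hGn9, nsmul_eq_mul, mul_one, one_mul] at h1
    have : (B.card : ℂ) = ((l + 7 : ℕ) : ℂ) := by rw [h1]; push_cast; ring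
    exact_mod_cast this
  have hl2 : 2 ≤ l := by
    have hpos : 0 < l := blockRank_pos hM (isPBlock_blockOf (principal G))
    by_contra hlt
    have hc := centralize_of_complement hab (hasNormalPComplement_of_blockRank hM
      (show blockRank 2 (principalBlock M G) = 1 by omega))
    have h3 := Subgroup.card_le_of_le hc
    have := Nat.card_pos (α := Subgroup.centralizer ((S : Subgroup G) : Set G))
    omega
  -- the arithmetic
  have hint : ∀ {f : G → ℂ} {z : IrrCharacter G → IrrCharacter G → ℤ},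
      (∀ g, conj (f g) = f g) → (∀ η ∈ B, ∀ χ ∈ B, Q f η χ = (z η χ : ℂ)) →
      ∀ η ∈ B, ∀ χ ∈ B, z η χ = z χ η := by
    intro f z hr hz η hη χ hχ
    have e := conj_mat (p := 2) (M := M) (S : Subgroup G) f η χ
    simp only [hr] at e
    change conj (Q f η χ) = Q f χ η at e
    rw [hz η hη χ hχ, hz χ hχ η hη, map_intCast] at e
    exact_mod_cast e
  have hcast : ∀ {f f' e : G → ℂ} {z z' w : IrrCharacter G → IrrCharacter G → ℤ} (c : ℤ),
      Good S f → Good S f' → (∀ g, conj (f' g) = f' g) → (∀ g, f g * f' g = (c : ℂ) * e g) →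
      (∀ η ∈ B, ∀ χ ∈ B, Q f η χ = (z η χ : ℂ)) → (∀ η ∈ B, ∀ χ ∈ B, Q f' η χ = (z' η χ : ℂ)) →
      (∀ η ∈ B, ∀ χ ∈ B, (c : ℂ) * Q e η χ = ((w η χ : ℤ) : ℂ)) →
      ∀ η ∈ B, ∀ χ ∈ B, ∑ θ ∈ B, z η θ * z' χ θ = w η χ := by
    intro f f' e z z' w c hf hf' hr he' hz hz' hw η hη χ hχ
    have := hprod f f' hf hf' hr c e he' η hη χ hχ
    rw [hw η hη χ hχ, Finset.sum_congr rfl fun θ hθ => by
      rw [hz η hη θ hθ, hz' χ hχ θ hθ, map_intCast, ← Int.cast_mul], ← Int.cast_sum] at this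
    exact_mod_cast this
  let ι := {χ : IrrCharacter G // χ ∈ B}
  let o : ι := ⟨principal G, Finset.mem_filter.2 ⟨Finset.mem_univ _, mem_blockOf_self hM (principal G)⟩⟩
  have ho : d o.1 = 1 := by
    have e := hd (principal G)
    change (1 : ℂ) = _ at e
    exact_mod_cast e.symm
  have hside : ∀ {f : G → ℂ} {z : IrrCharacter G → IrrCharacter G → ℤ}, Good S f →
      (∀ g, conj (f g) = f g) → (∀ g, f g * f g = ((16 : ℤ) : ℂ) * f g) →
      (∀ g, f g * fD g = ((0 : ℤ) : ℂ) * f g) →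
      (∃ f' : G → ℂ, Good S f' ∧ ∀ g, f g + fD g = 4 * f' g) →
      (∑ χ ∈ B, Q f χ χ = 48) →
      (∀ η ∈ B, ∀ χ ∈ B, Q f η χ = (z η χ : ℂ)) →
      Side (fun i j : ι => z i.1 j.1) (fun i : ι => d i.1) := by
    intro f z hf hr hsq horth hcon htrf hz
    refine ⟨fun i j => hint hr hz i.1 i.2 j.1 j.2, fun i j => ?_, fun i => ?_, fun i j => ?_, ?_⟩
    · rw [Finset.sum_coe_sort B (fun θ => z i.1 θ * z j.1 θ)]
      exact hcast 16 hf hf hr hsq hz hz (w := fun η χ => 16 * z η χ)
        (fun η hη χ hχ => by rw [hz η hη χ hχ]; push_cast; ring) i.1 i.2 j.1 j.2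
    · rw [Finset.sum_coe_sort B (fun θ => z i.1 θ * d θ)]
      have := hcast 0 hf gD rD horth hz hmD (w := fun _ _ => 0)
        (fun η hη χ hχ => by simp) i.1 i.2 o.1 o.2
      simpa [ho] using this
    · obtain ⟨f', hf', he'⟩ := hcon
      obtain ⟨n, hn⟩ := exists_int_mat hM hab hf' (Finset.mem_filter.1 i.2).2 (Finset.mem_filter.1 j.2).2
      refine ⟨n, ?_⟩
      have e : Q f i.1 j.1 + Q fD i.1 j.1 = ((4 * n : ℤ) : ℂ) := by
        show mat 2 M (S : Subgroup G) f i.1 j.1 + mat 2 M (S : Subgroup G) fD i.1 j.1 = _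
        rw [← mat_add, mat_congr _ (f' := fun g => 4 * f' g) (fun y => he' y), mat_smul, hn]
        push_cast
        ring
      rw [hz i.1 i.2 j.1 j.2, hmD i.1 i.2 j.1 j.2, ← Int.cast_add] at e
      exact_mod_cast e
    · rw [Finset.sum_coe_sort B (fun θ => z θ θ)]
      rw [Finset.sum_congr rfl fun χ hχ => hz χ hχ χ hχ, ← Int.cast_sum] at htrf
      exact_mod_cast htrf
  have hA := hside gA rA (fun g => by simp only [hfA]; split_ifs <;> norm_num)
    (fun g => by
      rcases hcases g with h' | ⟨h', u, v⟩ | ⟨h', u, v⟩ | ⟨h', u, v⟩ <;> simp [hfA, hfD, h', *, one_mem])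
    ⟨_, (good_const_sub g1 3), fun g => by rw [eA, eD]; push_cast; ring⟩ trA hzA
  have hBs := hside gB rB (fun g => by simp only [hfB]; split_ifs <;> norm_num)
    (fun g => by
      rcases hcases g with h' | ⟨h', u, v⟩ | ⟨h', u, v⟩ | ⟨h', u, v⟩ <;> simp [hfB, hfD, h', *, one_mem])
    ⟨_, (good_const_sub g2 3), fun g => by rw [eB, eD]; push_cast; ring⟩ trB hzB
  have hk16 : Fintype.card ι = 16 := by
    refine card_eq_sixteen (m := fun i j : ι => zm i.1 j.1) (fun i : ι => d i.1) hA hBs (fun i => ?_)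
      (fun i => ?_) (fun i => ?_) (fun i => hd0 _ (Finset.mem_filter.1 i.2).2) (o := o) ho ?_ ?_
    · rw [Finset.sum_coe_sort B (fun θ => zA i.1 θ * zB i.1 θ)]
      exact hcast 0 gA gB rB (e := fA) (fun g => by
        rcases hcases g with h' | ⟨h', u, v⟩ | ⟨h', u, v⟩ | ⟨h', u, v⟩ <;>
          simp [hfA, hfB, h', *, one_mem]) hzA hzB (w := fun _ _ => 0)
        (fun η hη χ hχ => by simp) i.1 i.2 i.1 i.2
    · have e : Q fm i.1 i.1 + Q fA i.1 i.1 + Q fB i.1 i.1 + Q fD i.1 i.1 = ((16 : ℤ) : ℂ) := by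
        show mat 2 M _ fm _ _ + mat 2 M _ fA _ _ + mat 2 M _ fB _ _ + mat 2 M _ fD _ _ = _
        rw [← mat_add, ← mat_add, ← mat_add,
          mat_congr _ (f' := fun g => (16 : ℂ) * (fun _ => (1 : ℂ)) g) fun y => ?_, mat_smul,
          mat_one hM hab (Finset.mem_filter.1 i.2).2 (Finset.mem_filter.1 i.2).2, if_pos rfl]
        · norm_num
        · rcases hcases (y : G) with h' | ⟨h', u, v⟩ | ⟨h', u, v⟩ | ⟨h', u, v⟩ <;>
            simp [hfm, hfA, hfB, hfD, h', *, one_mem]
      rw [hzm _ i.2 _ i.2, hzA _ i.2 _ i.2, hzB _ i.2 _ i.2, hmD _ i.2 _ i.2, ← Int.cast_add,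
        ← Int.cast_add, ← Int.cast_add] at e
      exact_mod_cast e
    · have e := hcast 16 gm gm rm (e := fm) (fun g => by simp only [hfm]; split_ifs <;> norm_num)
        hzm hzm (w := fun η χ => 16 * zm η χ)
        (fun η hη χ hχ => by rw [hzm η hη χ hχ]; push_cast; ring) i.1 i.2 i.1 i.2
      have hnn : 0 ≤ 16 * zm i.1 i.1 := e ▸ Finset.sum_nonneg fun θ _ => mul_self_nonneg _
      have hne0 : zm i.1 i.1 ≠ 0 := fun h0 => by
        have h1 := hzm i.1 i.2 i.1 i.2
        rw [h0, Int.cast_zero] at h1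
        change mat 2 M (S : Subgroup G) fm i.1 i.1 = 0 at h1
        rw [mat, Finset.sum_eq_single (1 : (S : Subgroup G)) (fun y _ hy => by
          rw [show fm y = 0 from if_neg fun e => hy (Subtype.ext e), zero_mul, zero_mul]) (by simp)] at h1
        rcases mul_eq_zero.1 h1 with h2 | h2
        · rcases mul_eq_zero.1 h2 with h3 | h3
          · simp [hfm] at h3
          · exact wt_ne_zero _ _ h3
        · exact kk_self_ne_zero hM (isPElem_of_mem S.2 (one_mem _)) (Finset.mem_filter.1 i.2).2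
            (by simpa using IsIrrCharacter.apply_one_ne_zero i.1.2) h2
      omega
    · rw [Finset.sum_coe_sort B (fun θ => d θ * d θ), hd2, hS]
      norm_num
    · rw [Fintype.card_coe, hk]
      omega
  rw [Fintype.card_coe] at hk16
  refine ⟨?_, by omega⟩
  rw [Nat.card_eq_fintype_card, Fintype.card_subtype]
  exact hk16

end

end Cfsg.Lib.Blocks.SixteenNine
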