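import Mathlib

/-!
# An elementary group of order sixteen with an automizer of order nine

The automizer fixes no involution, and the subgroup is the product of two invariant four groups,
each centralised by a subgroup of order three.
-/

set_option autoImplicit false
set_option linter.unusedSectionVars false

namespace Cfsg.Lib.Blocks.SixteenNine

universe u

variable {G : Type u} [Group G] [Finite G]

/-- The action of the normalizer on an elementary group of order sixteen. -/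
structure Split (S : Subgroup G) (V W : Subgroup G) : Prop where
  leV : V ≤ S
  leW : W ≤ S
  cardV : Nat.card V = 4
  cardW : Nat.card W = 4
  inf : V ⊓ W = ⊥
  invV : ∀ t ∈ Subgroup.normalizer (S : Set G), ∀ v ∈ V, t * v * t⁻¹ ∈ V
  invW : ∀ t ∈ Subgroup.normalizer (S : Set G), ∀ v ∈ W, t * v * t⁻¹ ∈ W
  fixV : ∀ a ∈ V, a ≠ 1 → ∀ t ∈ Subgroup.normalizer (S : Set G), t * a = a * t → ∀ v ∈ V, t * v = v * t
  fixW : ∀ a ∈ W, a ≠ 1 → ∀ t ∈ Subgroup.normalizer (S : Set G), t * a = a * t → ∀ v ∈ W, t * v = v * t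
  stab : ∀ y, y ∈ V ∨ y ∈ W → y ≠ 1 →
    Nat.card (Subgroup.normalizer (S : Set G) ⊓ Subgroup.centralizer ({y} : Set G) : Subgroup G) * 3 =
      Nat.card (Subgroup.normalizer (S : Set G))
  free : ∀ y ∈ S, y ∉ V → y ∉ W → ∀ t ∈ Subgroup.normalizer (S : Set G), t * y = y * t →
    t ∈ Subgroup.centralizer (S : Set G)
  trans : ∀ y ∈ S, y ∉ V → y ∉ W → ∀ y' ∈ S, y' ∉ V → y' ∉ W →
    ∃ t ∈ Subgroup.normalizer (S : Set G), t * y * t⁻¹ = y'

/-- The points fixed by an automorphism. -/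
def fixer {A : Type*} [Group A] (r : MulAut A) : Subgroup A where
  carrier := {x | r x = x}
  one_mem' := map_one r
  mul_mem' := fun {a b} ha hb => by simp only [Set.mem_setOf_eq, map_mul] at *; rw [ha, hb]
  inv_mem' := fun {a} ha => by simp only [Set.mem_setOf_eq, map_inv] at *; rw [ha]

lemma mem_fixer {A : Type*} [Group A] (r : MulAut A) (x : A) : x ∈ fixer r ↔ r x = x := Iff.rfl

section

variable {A : Type*} [Group A] [Finite A] {R : Subgroup (MulAut A)}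

instance : MulAction R A where
  smul r x := (r : MulAut A) x
  one_smul _ := rfl
  mul_smul _ _ _ := rfl

lemma smul_eq (r : R) (x : A) : r • x = (r : MulAut A) x := rfl

variable (hA : Nat.card A = 16) (hR : Nat.card R = 9)
include hA hR

/-- The fixed points of a nontrivial element. -/
lemma card_fixer {r : MulAut A} (hr : r ∈ R) (h1 : r ≠ 1) :
    Nat.card (fixer r) = 1 ∨ Nat.card (fixer r) = 4 := by
  haveI : Fact (Nat.Prime 3) := ⟨Nat.prime_three⟩
  have h3 : IsPGroup 3 R := IsPGroup.of_card (n := 2) (by rw [hR]; norm_num)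
  have hsub := h3.to_subgroup (Subgroup.zpowers (⟨r, hr⟩ : R))
  have hmod := hsub.card_modEq_card_fixedPoints A
  have heq : MulAction.fixedPoints (Subgroup.zpowers (⟨r, hr⟩ : R)) A = (fixer r : Set A) := by
    ext x
    constructor
    · intro h
      exact h ⟨⟨r, hr⟩, Subgroup.mem_zpowers _⟩
    · rintro h ⟨g, hg⟩
      obtain ⟨k, rfl⟩ := Subgroup.mem_zpowers_iff.1 hg
      have hs : (⟨r, hr⟩ : R) ∈ MulAction.stabilizer R x := h
      exact (MulAction.stabilizer R x).zpow_mem hs k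
  rw [heq, hA] at hmod
  change 16 ≡ Nat.card (fixer r) [MOD 3] at hmod
  have hd : Nat.card (fixer r) ∣ 2 ^ 4 := by
    rw [show (2 : ℕ) ^ 4 = Nat.card A by rw [hA]; norm_num]
    exact Subgroup.card_subgroup_dvd_card _
  obtain ⟨k, hk, hk'⟩ := (Nat.dvd_prime_pow Nat.prime_two).1 hd
  rw [hk'] at hmod ⊢
  interval_cases k
  · exact Or.inl rfl
  · exact absurd hmod (by decide)
  · exact Or.inr rfl
  · exact absurd hmod (by decide)
  · exfalso
    have htop : fixer r = ⊤ := Subgroup.eq_top_of_card_eq _ (by rw [hk', hA]; norm_num)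
    refine h1 (MulEquiv.ext fun x => ?_)
    show r x = x
    exact (mem_fixer r x).1 (htop ▸ Subgroup.mem_top x)

lemma card_orbit_of_free {x : A} (h : ∀ r ∈ R, r x = x → r = 1) :
    (MulAction.orbit R x).ncard = 9 := by
  have hst : MulAction.stabilizer R x = ⊥ := by
    rw [Subgroup.eq_bot_iff_forall]
    exact fun r hr => Subtype.ext (h r r.2 hr)
  rw [← MulAction.index_stabilizer, hst, Subgroup.index_bot, hR]

/-- No point is fixed by everything. -/
lemma no_common {x : A} (h : ∀ r ∈ R, r x = x) : x = 1 := by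
  by_contra hx
  haveI : Nontrivial R := by
    rw [← Finite.one_lt_card_iff_nontrivial, hR]; norm_num
  obtain ⟨r₀, hr₀⟩ := exists_ne (1 : R)
  have hr₀' : (r₀ : MulAut A) ≠ 1 := fun e => hr₀ (Subtype.ext e)
  let F : Subgroup A := ⨅ r : R, fixer (r : MulAut A)
  have hF : ∀ z, z ∈ F ↔ ∀ r ∈ R, r z = z := fun z => by
    simp only [F, Subgroup.mem_iInf, mem_fixer, Subtype.forall]
  have hxF : x ∈ F := (hF x).2 h
  have hFne : Nat.card F ≠ 1 := fun e => hx (by
    rw [Subgroup.card_eq_one] at e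
    rw [e] at hxF
    exact Subgroup.mem_bot.1 hxF)
  have h3 : IsPGroup 3 R := IsPGroup.of_card (n := 2) (by rw [hR]; norm_num)
  haveI : Fact (Nat.Prime 3) := ⟨Nat.prime_three⟩
  have hmod := h3.card_modEq_card_fixedPoints A
  rw [show MulAction.fixedPoints R A = (F : Set A) by
    ext z; rw [SetLike.mem_coe, hF]; exact ⟨fun h r hr => h ⟨r, hr⟩, fun h r => h r r.2⟩, hA] at hmod
  change 16 ≡ Nat.card F [MOD 3] at hmod
  have hle : F ≤ fixer (r₀ : MulAut A) := iInf_le _ r₀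
  have hd := Subgroup.card_dvd_of_le hle
  have h4 : Nat.card F = 4 := by
    rcases card_fixer hA hR r₀.2 hr₀' with e | e <;> rw [e] at hd
    · exact absurd (Nat.dvd_one.1 hd) hFne
    · have := Nat.le_of_dvd (by norm_num) hd
      interval_cases hc : Nat.card F
      all_goals first | rfl | (exfalso; revert hmod hFne; decide)
  have hfree : ∀ z ∉ F, ∀ r ∈ R, r z = z → r = 1 := by
    intro z hz r hr hrz
    by_contra hne
    have heq : F = fixer r := Subgroup.eq_of_le_of_card_ge (iInf_le _ (⟨r, hr⟩ : R))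
      (by rcases card_fixer hA hR hr hne with e | e <;> rw [e, h4] <;> norm_num)
    exact hz (heq ▸ hrz)
  have hnotF : ∀ z ∉ F, (MulAction.orbit R z) ⊆ (F : Set A)ᶜ := by
    rintro z hz _ ⟨r, rfl⟩ hm
    have h1 : ((r⁻¹ : R) : MulAut A) (r • z) = r • z := (hF _).1 hm _ (r⁻¹).2
    refine hz ?_
    change (r⁻¹ : R) • r • z = r • z at h1
    rw [inv_smul_smul] at h1
    rw [h1]; exact hm
  have hc12 : ((F : Set A)ᶜ).ncard = 12 := by
    rw [Set.ncard_compl, ← Nat.card_coe_set_eq]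
    show Nat.card A - Nat.card F = 12
    rw [hA, h4]
  obtain ⟨z, hz⟩ : ((F : Set A)ᶜ).Nonempty := Set.nonempty_of_ncard_ne_zero (by omega)
  have h9 := card_orbit_of_free hA hR (hfree z hz)
  obtain ⟨z', hz', hz''⟩ : ∃ z' ∈ (F : Set A)ᶜ, z' ∉ MulAction.orbit R z := by
    refine Set.exists_mem_notMem_of_ncard_lt_ncard ?_
    rw [h9, hc12]; norm_num
  have h9' := card_orbit_of_free hA hR (hfree z' hz')
  have hdis : Disjoint (MulAction.orbit R z) (MulAction.orbit R z') := by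
    refine (MulAction.orbit.eq_or_disjoint z z').resolve_left fun e => hz'' ?_
    rw [e]; exact MulAction.mem_orbit_self z'
  have := Set.ncard_le_ncard (Set.union_subset (hnotF z hz) (hnotF z' hz'))
  rw [Set.ncard_union_eq hdis] at this
  omega

/-- A nontrivial element with a nontrivial fixed point outside a given invariant set. -/
lemma exists_fixed (W : Subgroup A) (hW : Nat.card W = 1 ∨ Nat.card W = 4)
    (hinv : ∀ r ∈ R, ∀ w ∈ W, r w ∈ W) : ∃ x ∉ W, ∃ r ∈ R, r ≠ 1 ∧ r x = x := by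
  by_contra hno
  push Not at hno
  have hfree : ∀ z ∉ W, ∀ r ∈ R, r z = z → r = 1 := fun z hz r hr h =>
    by_contra fun hne => hno z hz r hr hne h
  have hsub : ∀ z ∉ W, MulAction.orbit R z ⊆ (W : Set A)ᶜ := by
    rintro z hz _ ⟨r, rfl⟩ hm
    refine hz ?_
    have h1 : ((r⁻¹ : R) : MulAut A) (r • z) ∈ W := hinv _ (r⁻¹).2 _ hm
    change (r⁻¹ : R) • r • z ∈ W at h1
    rwa [inv_smul_smul] at h1
  have hc : ((W : Set A)ᶜ).ncard = 15 ∨ ((W : Set A)ᶜ).ncard = 12 := by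
    rw [Set.ncard_compl, ← Nat.card_coe_set_eq]
    show Nat.card A - Nat.card W = 15 ∨ Nat.card A - Nat.card W = 12
    rw [hA]; omega
  obtain ⟨z, hz⟩ : ((W : Set A)ᶜ).Nonempty := Set.nonempty_of_ncard_ne_zero (by omega)
  have h9 := card_orbit_of_free hA hR (hfree z hz)
  obtain ⟨z', hz', hz''⟩ : ∃ z' ∈ (W : Set A)ᶜ, z' ∉ MulAction.orbit R z := by
    refine Set.exists_mem_notMem_of_ncard_lt_ncard ?_
    omega
  have h9' := card_orbit_of_free hA hR (hfree z' hz')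
  have hdis : Disjoint (MulAction.orbit R z) (MulAction.orbit R z') := by
    refine (MulAction.orbit.eq_or_disjoint z z').resolve_left fun e => hz'' ?_
    rw [e]; exact MulAction.mem_orbit_self z'
  have := Set.ncard_le_ncard (Set.union_subset (hsub z hz) (hsub z' hz'))
  rw [Set.ncard_union_eq hdis] at this
  omega

/-- The two invariant four groups. -/
theorem exists_pair : ∃ V W : Subgroup A, Nat.card V = 4 ∧ Nat.card W = 4 ∧ V ⊓ W = ⊥ ∧
    (∀ r ∈ R, ∀ v ∈ V, r v ∈ V) ∧ (∀ r ∈ R, ∀ v ∈ W, r v ∈ W) ∧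
    (∀ a ∈ V, a ≠ 1 → ∀ r ∈ R, r a = a → ∀ v ∈ V, r v = v) ∧
    (∀ a ∈ W, a ≠ 1 → ∀ r ∈ R, r a = a → ∀ v ∈ W, r v = v) ∧
    (∀ a, a ∈ V ∨ a ∈ W → a ≠ 1 → (MulAction.orbit R a).ncard = 3) ∧
    (∀ y, y ∉ V → y ∉ W → ∀ r ∈ R, r y = y → r = 1) ∧
    ∀ y, y ∉ V → y ∉ W → ∀ y', y' ∉ V → y' ∉ W → y' ∈ MulAction.orbit R y := by
  haveI : Fact (Nat.Prime 3) := ⟨Nat.prime_three⟩
  have hcomm : ∀ r ∈ R, ∀ r' ∈ R, r * r' = r' * r := fun r hr r' hr' => by
    have h := IsPGroup.commutative_of_card_eq_prime_sq (p := 3) (G := R)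
      (by rw [hR]; norm_num)
    exact congrArg Subtype.val (h ⟨r, hr⟩ ⟨r', hr'⟩)
  have hinv : ∀ r₁ ∈ R, ∀ r ∈ R, ∀ v ∈ fixer r₁, r v ∈ fixer r₁ := fun r₁ h₁ r hr v hv => by
    show (r₁ * r) v = r v
    rw [hcomm r₁ h₁ r hr]
    exact congrArg r hv
  obtain ⟨x, hx, r₁, h₁, hn₁, hx₁⟩ := exists_fixed hA hR ⊥ (Or.inl Subgroup.card_bot)
    (fun r _ w hw => by rw [Subgroup.mem_bot.1 hw, map_one]; exact one_mem _)
  have hV : Nat.card (fixer r₁) = 4 := (card_fixer hA hR h₁ hn₁).resolve_left fun e => hx (by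
    rw [Subgroup.card_eq_one] at e
    exact e ▸ (mem_fixer r₁ x).2 hx₁)
  obtain ⟨x', hx', r₂, h₂, hn₂, hx₂⟩ := exists_fixed hA hR (fixer r₁) (Or.inr hV) (hinv r₁ h₁)
  have hW : Nat.card (fixer r₂) = 4 := (card_fixer hA hR h₂ hn₂).resolve_left fun e => hx' (by
    rw [Subgroup.card_eq_one] at e
    have : x' ∈ (⊥ : Subgroup A) := e ▸ (mem_fixer r₂ x').2 hx₂
    rw [Subgroup.mem_bot.1 this]; exact one_mem _)
  -- an element fixing a nontrivial point of a fixed group fixes the group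
  have hfix : ∀ r₀ ∈ R, r₀ ≠ 1 → Nat.card (fixer r₀) = 4 → ∀ a ∈ fixer r₀, a ≠ 1 → ∀ r ∈ R, r a = a →
      ∃ k : ℤ, r = r₀ ^ k := by
    intro r₀ h₀ hn₀ hc a ha ha1 r hr hra
    set T := MulAction.stabilizer R a
    have hle : Subgroup.zpowers (⟨r₀, h₀⟩ : R) ≤ T := Subgroup.zpowers_le.2 ha
    have hz : Nat.card (Subgroup.zpowers (⟨r₀, h₀⟩ : R)) ≠ 1 := by
      rw [Nat.card_zpowers, Ne, orderOf_eq_one_iff]
      exact fun e => hn₀ (congrArg Subtype.val e)
    have hT : Nat.card T ≠ 9 := fun e => ha1 (no_common hA hR fun g hg => by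
      have htop : T = ⊤ := Subgroup.eq_top_of_card_eq _ (by rw [e, hR])
      exact (show (⟨g, hg⟩ : R) ∈ T from htop ▸ Subgroup.mem_top _))
    have hd : Nat.card T ∣ 3 ^ 2 := by
      rw [show (3 : ℕ) ^ 2 = Nat.card R by rw [hR]; norm_num]
      exact Subgroup.card_subgroup_dvd_card _
    have hd' := Subgroup.card_dvd_of_le hle
    obtain ⟨i, hi, hi'⟩ := (Nat.dvd_prime_pow Nat.prime_three).1 hd
    have hT3 : Nat.card T = 3 := by
      rw [hi'] at hd' hT ⊢
      interval_cases i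
      · exact absurd (Nat.dvd_one.1 hd') hz
      · rfl
      · exact absurd rfl hT
    have hz3 : Nat.card (Subgroup.zpowers (⟨r₀, h₀⟩ : R)) = 3 := by
      rw [hT3] at hd'
      exact ((Nat.dvd_prime Nat.prime_three).1 hd').resolve_left hz
    have hmem : (⟨r, hr⟩ : R) ∈ Subgroup.zpowers (⟨r₀, h₀⟩ : R) := by
      rw [Subgroup.eq_of_le_of_card_ge hle (by rw [hT3, hz3])]
      exact hra
    obtain ⟨k, hk⟩ := Subgroup.mem_zpowers_iff.1 hmem
    exact ⟨k, by simpa using (congrArg Subtype.val hk).symm⟩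
  have hpw : ∀ r₀ : MulAut A, ∀ v ∈ fixer r₀, ∀ k : ℤ, (r₀ ^ k) v = v := by
    intro r₀ v hv k
    let T : Subgroup (MulAut A) :=
      { carrier := {s | s v = v}
        one_mem' := rfl
        mul_mem' := fun {a b} ha hb => by
          show a (b v) = v
          rw [show b v = v from hb]; exact ha
        inv_mem' := fun {a} ha => by
          show a⁻¹ v = v
          conv_lhs => rw [← show a v = v from ha]
          exact a.symm_apply_apply v }
    exact T.zpow_mem (show r₀ ∈ T from hv) k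
  have hinf : fixer r₁ ⊓ fixer r₂ = ⊥ := by
    rw [Subgroup.eq_bot_iff_forall]
    rintro a ⟨ha₁, ha₂⟩
    by_contra ha
    obtain ⟨k, hk⟩ := hfix r₁ h₁ hn₁ hV a ha₁ ha r₂ h₂ ha₂
    have heq : fixer r₁ ≤ fixer r₂ := fun v hv => by
      show r₂ v = v
      rw [hk]; exact hpw r₁ v hv k
    have := Subgroup.eq_of_le_of_card_ge heq (by rw [hV, hW])
    exact hx' (this ▸ hx₂)
  refine ⟨fixer r₁, fixer r₂, hV, hW, hinf, hinv r₁ h₁, hinv r₂ h₂, ?_, ?_, ?_, ?_⟩
  · intro a ha ha1 r hr hra v hv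
    obtain ⟨k, rfl⟩ := hfix r₁ h₁ hn₁ hV a ha ha1 r hr hra
    exact hpw r₁ v hv k
  · intro a ha ha1 r hr hra v hv
    obtain ⟨k, rfl⟩ := hfix r₂ h₂ hn₂ hW a ha ha1 r hr hra
    exact hpw r₂ v hv k
  · -- orbits of size three
    have horb : ∀ r₀ ∈ R, r₀ ≠ 1 → Nat.card (fixer r₀) = 4 → ∀ a ∈ fixer r₀, a ≠ 1 →
        (MulAction.orbit R a).ncard = 3 := by
      intro r₀ h₀ hn₀ hc a ha ha1
      have hsub : MulAction.orbit R a ⊆ (fixer r₀ : Set A) \ {1} := by
        rintro _ ⟨r, rfl⟩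
        refine ⟨hinv r₀ h₀ r r.2 a ha, fun e => ha1 ?_⟩
        exact (r : MulAut A).injective (e.trans (map_one _).symm)
      have h3 := Set.ncard_le_ncard hsub
      rw [Set.ncard_diff_singleton_of_mem (one_mem _), ← Nat.card_coe_set_eq] at h3
      change (MulAction.orbit R a).ncard ≤ Nat.card (fixer r₀) - 1 at h3
      have hd : (MulAction.orbit R a).ncard ∣ 3 ^ 2 := by
        rw [← MulAction.index_stabilizer, show (3 : ℕ) ^ 2 = Nat.card R by rw [hR]; norm_num]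
        exact Subgroup.index_dvd_card _
      have hne : (MulAction.orbit R a).ncard ≠ 1 := by
        intro e
        refine ha1 (no_common hA hR fun g hg => ?_)
        obtain ⟨b, hb⟩ := Set.ncard_eq_one.1 e
        have h1 : (⟨g, hg⟩ : R) • a ∈ MulAction.orbit R a := ⟨_, rfl⟩
        have h2 : a ∈ MulAction.orbit R a := MulAction.mem_orbit_self a
        rw [hb] at h1 h2
        exact (Set.mem_singleton_iff.1 h1).trans (Set.mem_singleton_iff.1 h2).symm
      obtain ⟨i, hi, hi'⟩ := (Nat.dvd_prime_pow Nat.prime_three).1 hd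
      rw [hi', hc] at h3
      rw [hi'] at hne ⊢
      interval_cases i
      · exact absurd rfl hne
      · rfl
      · norm_num at h3
    rintro a (ha | ha) ha1
    · exact horb r₁ h₁ hn₁ hV a ha ha1
    · exact horb r₂ h₂ hn₂ hW a ha ha1
  have hprod : ∀ y : A, ∃ v ∈ fixer r₁, ∃ w ∈ fixer r₂, v * w = y := by
    have hinj : Function.Injective fun q : fixer r₁ × fixer r₂ => (q.1 : A) * q.2 :=
      Subgroup.mul_injective_of_disjoint (disjoint_iff.2 hinf)
    have hb : Function.Bijective fun q : fixer r₁ × fixer r₂ => (q.1 : A) * q.2 :=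
      (Nat.bijective_iff_injective_and_card _).2 ⟨hinj, by rw [Nat.card_prod, hV, hW, hA]⟩
    intro y
    obtain ⟨⟨v, w⟩, h⟩ := hb.2 y
    exact ⟨v, v.2, w, w.2, h⟩
  have hfree : ∀ y, y ∉ fixer r₁ → y ∉ fixer r₂ → ∀ r ∈ R, r y = y → r = 1 := by
    intro y hy₁ hy₂ r hr hry
    obtain ⟨v, hv, w, hw, rfl⟩ := hprod y
    rw [map_mul] at hry
    have hu := Subgroup.mul_injective_of_disjoint (disjoint_iff.2 hinf)
      (a₁ := (⟨r v, hinv r₁ h₁ r hr v hv⟩, ⟨r w, hinv r₂ h₂ r hr w hw⟩))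
      (a₂ := (⟨v, hv⟩, ⟨w, hw⟩)) hry
    have hrv : r v = v := congrArg (fun q => ((q.1 : fixer r₁) : A)) hu
    have hrw : r w = w := congrArg (fun q => ((q.2 : fixer r₂) : A)) hu
    have hv1 : v ≠ 1 := fun e => hy₂ (by rw [e, one_mul]; exact hw)
    have hw1 : w ≠ 1 := fun e => hy₁ (by rw [e, mul_one]; exact hv)
    obtain ⟨k, hk⟩ := hfix r₁ h₁ hn₁ hV v hv hv1 r hr hrv
    obtain ⟨l, hl⟩ := hfix r₂ h₂ hn₂ hW w hw hw1 r hr hrw
    refine MulEquiv.ext fun z => ?_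
    obtain ⟨v', hv', w', hw', rfl⟩ := hprod z
    show r (v' * w') = v' * w'
    rw [map_mul]
    congr 1
    · rw [hk]; exact hpw r₁ v' hv' k
    · rw [hl]; exact hpw r₂ w' hw' l
  refine ⟨hfree, fun y hy₁ hy₂ y' hy₁' hy₂' => ?_⟩
  set U : Set A := {z | z ∉ fixer r₁ ∧ z ∉ fixer r₂} with hU
  have hUc : U.ncard ≤ 9 := by
    have he : U = ((fixer r₁ : Set A) ∪ fixer r₂)ᶜ := by ext z; simp [hU]
    have hi : ((fixer r₁ : Set A) ∩ fixer r₂) = {1} := by
      rw [← Subgroup.coe_inf, hinf, Subgroup.coe_bot]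
    have hu := Set.ncard_union_add_ncard_inter (fixer r₁ : Set A) (fixer r₂)
    rw [hi, Set.ncard_singleton, ← Nat.card_coe_set_eq (fixer r₁ : Set A),
      ← Nat.card_coe_set_eq (fixer r₂ : Set A)] at hu
    change _ = Nat.card (fixer r₁) + Nat.card (fixer r₂) at hu
    rw [hV, hW] at hu
    rw [he, Set.ncard_compl, hA]
    omega
  have hsub : MulAction.orbit R y ⊆ U := by
    rintro _ ⟨r, rfl⟩
    constructor
    · intro h
      have h1 := hinv r₁ h₁ _ (r⁻¹).2 _ h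
      change (r⁻¹ : R) • r • y ∈ fixer r₁ at h1
      rw [inv_smul_smul] at h1
      exact hy₁ h1
    · intro h
      have h1 := hinv r₂ h₂ _ (r⁻¹).2 _ h
      change (r⁻¹ : R) • r • y ∈ fixer r₂ at h1
      rw [inv_smul_smul] at h1
      exact hy₂ h1
  have heq := Set.eq_of_subset_of_ncard_le hsub
    (hUc.trans (card_orbit_of_free hA hR (hfree y hy₁ hy₂)).ge)
  rw [heq]
  exact ⟨hy₁', hy₂'⟩

end

/-- The split. -/
theorem exists_split (S : Subgroup G) (hS : Nat.card S = 16)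
    (he : (Subgroup.centralizer (S : Set G)).relIndex (Subgroup.normalizer (S : Set G)) = 9) :
    ∃ V W : Subgroup G, Split S V W := by
  set N := Subgroup.normalizer (S : Set G) with hN
  set φ := S.normalizerMonoidHom with hφ
  set R := φ.range with hR
  have hker : φ.ker = (Subgroup.centralizer (S : Set G)).subgroupOf N :=
    Subgroup.normalizerMonoidHom_ker S
  have hRc : Nat.card R = 9 := by
    rw [hR, ← Subgroup.index_ker, hker]
    exact he
  have hact : ∀ (t : N) (x : S), ((φ t x : S) : G) = (t : G) * x * (t : G)⁻¹ := fun t x => rfl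
  obtain ⟨V, W, hV, hW, hinf, iV, iW, fV, fW, horb, hfree, htrans⟩ := exists_pair hS hRc
  have hmem : ∀ (U : Subgroup S) (v : G), v ∈ U.map S.subtype ↔ ∃ h : v ∈ S, (⟨v, h⟩ : S) ∈ U := by
    intro U v
    constructor
    · rintro ⟨u, hu, rfl⟩
      exact ⟨u.2, hu⟩
    · rintro ⟨h, hu⟩
      exact ⟨⟨v, h⟩, hu, rfl⟩
  have hcomm : ∀ (t : N) (v : S), φ t v = v ↔ (t : G) * v = v * t := fun t v => by
    rw [Subtype.ext_iff, hact, mul_inv_eq_iff_eq_mul]
  have hstab : ∀ y : S, (MulAction.orbit R y).ncard = 3 →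
      Nat.card (N ⊓ Subgroup.centralizer ({(y : G)} : Set G) : Subgroup G) * 3 = Nat.card N := by
    intro y h3
    have he' : ((N ⊓ Subgroup.centralizer ({(y : G)} : Set G)).subgroupOf N) =
        (MulAction.stabilizer R y).comap φ.rangeRestrict := by
      ext t
      rw [Subgroup.mem_subgroupOf, Subgroup.mem_inf, Subgroup.mem_centralizer_singleton_iff]
      exact ⟨fun h => (hcomm t y).2 h.2, fun h => ⟨t.2, (hcomm t y).1 h⟩⟩
    rw [← Nat.card_congr (Subgroup.subgroupOfEquivOfLe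
      (inf_le_left : N ⊓ Subgroup.centralizer ({(y : G)} : Set G) ≤ N)).toEquiv, he',
      ← Subgroup.card_mul_index ((MulAction.stabilizer R y).comap φ.rangeRestrict),
      Subgroup.index_comap_of_surjective _ φ.rangeRestrict_surjective, MulAction.index_stabilizer, h3]
  refine ⟨V.map S.subtype, W.map S.subtype, ?_⟩
  refine ⟨Subgroup.map_subtype_le V, Subgroup.map_subtype_le W, ?_, ?_, ?_, ?_, ?_, ?_, ?_, ?_, ?_, ?_⟩
  · rw [← Nat.card_congr (V.equivMapOfInjective _ S.subtype_injective).toEquiv, hV]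
  · rw [← Nat.card_congr (W.equivMapOfInjective _ S.subtype_injective).toEquiv, hW]
  · rw [← Subgroup.map_inf _ _ _ S.subtype_injective, hinf, Subgroup.map_bot]
  · intro t ht v hv
    obtain ⟨h, hu⟩ := (hmem V v).1 hv
    exact ⟨_, iV _ ⟨⟨t, ht⟩, rfl⟩ _ hu, hact ⟨t, ht⟩ ⟨v, h⟩⟩
  · intro t ht v hv
    obtain ⟨h, hu⟩ := (hmem W v).1 hv
    exact ⟨_, iW _ ⟨⟨t, ht⟩, rfl⟩ _ hu, hact ⟨t, ht⟩ ⟨v, h⟩⟩
  · intro a ha ha1 t ht hta v hv
    obtain ⟨h, hu⟩ := (hmem V a).1 ha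
    obtain ⟨h', hu'⟩ := (hmem V v).1 hv
    exact (hcomm ⟨t, ht⟩ ⟨v, h'⟩).1 (fV _ hu (fun e => ha1 (congrArg Subtype.val e)) _
      ⟨⟨t, ht⟩, rfl⟩ ((hcomm ⟨t, ht⟩ ⟨a, h⟩).2 hta) _ hu')
  · intro a ha ha1 t ht hta v hv
    obtain ⟨h, hu⟩ := (hmem W a).1 ha
    obtain ⟨h', hu'⟩ := (hmem W v).1 hv
    exact (hcomm ⟨t, ht⟩ ⟨v, h'⟩).1 (fW _ hu (fun e => ha1 (congrArg Subtype.val e)) _
      ⟨⟨t, ht⟩, rfl⟩ ((hcomm ⟨t, ht⟩ ⟨a, h⟩).2 hta) _ hu')
  · rintro y (hy | hy) hy1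
    · obtain ⟨h, hu⟩ := (hmem V y).1 hy
      exact hstab ⟨y, h⟩ (horb _ (Or.inl hu) fun e => hy1 (congrArg Subtype.val e))
    · obtain ⟨h, hu⟩ := (hmem W y).1 hy
      exact hstab ⟨y, h⟩ (horb _ (Or.inr hu) fun e => hy1 (congrArg Subtype.val e))
  · intro y hy hy₁ hy₂ t ht hty
    have h1 := hfree ⟨y, hy⟩ (fun h => hy₁ ⟨_, h, rfl⟩) (fun h => hy₂ ⟨_, h, rfl⟩) _
      ⟨⟨t, ht⟩, rfl⟩ ((hcomm ⟨t, ht⟩ ⟨y, hy⟩).2 hty)
    have h2 : (⟨t, ht⟩ : N) ∈ φ.ker := MonoidHom.mem_ker.2 h1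
    rw [hker, Subgroup.mem_subgroupOf] at h2
    exact h2
  · intro y hy hy₁ hy₂ y' hy' hy₁' hy₂'
    obtain ⟨⟨_, t, rfl⟩, hr⟩ := htrans ⟨y, hy⟩ (fun h => hy₁ ⟨_, h, rfl⟩) (fun h => hy₂ ⟨_, h, rfl⟩)
      ⟨y', hy'⟩ (fun h => hy₁' ⟨_, h, rfl⟩) (fun h => hy₂' ⟨_, h, rfl⟩)
    exact ⟨t, t.2, congrArg Subtype.val hr⟩

end Cfsg.Lib.Blocks.SixteenNine
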