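import Cfsg.Agent.Blocks.Star.PrincipalMatrices
import Cfsg.Agent.Blocks.PrincipalRank
import Cfsg.Agent.Blocks.SixteenNine.Structure
import Cfsg.Agent.S0944

/-!
# Involution columns of a principal block and the local ranks
-/

set_option autoImplicit false
set_option linter.unusedSectionVars false
set_option linter.style.haveILetI false

namespace Cfsg.Lib.Blocks.SixteenNine

open Cfsg.Lib.Chars Cfsg.Lib.Blocks Cfsg.Lib.Blocks.Star Cfsg.Lib.Blocks.PrincipalStar
open scoped _root_.Classical ComplexConjugate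

universe u

local notation "C⟨" P "⟩" => Subgroup.centralizer (SetLike.coe P)

variable {G : Type u} [Group G] [Fintype G] {M : Ideal AlgInt}

lemma centralize_of_complement {p : ℕ} [Fact p.Prime] {S : Sylow p G}
    (hab : ∀ a ∈ (S : Subgroup G), ∀ b ∈ (S : Subgroup G), a * b = b * a)
    (h : HasNormalPComplement p G) :
    Subgroup.normalizer ((S : Subgroup G) : Set G) ≤ Subgroup.centralizer ((S : Subgroup G) : Set G) := by
  obtain ⟨K, hKn, hKc, k, hk⟩ := Cfsg.Lib.Transfer.hasNormalPComplement_iff.1 h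
  have hc := Cfsg.Lib.Transfer.isComplement'_sylow_of_coprime_index hKc hk S
  intro t ht
  obtain ⟨⟨a, b⟩, hab', -⟩ := hc.existsUnique t
  change (a : G) * b = t at hab'
  refine Subgroup.mem_centralizer_iff.2 fun s hs => ?_
  have hts : t * s * t⁻¹ ∈ (S : Subgroup G) := (Subgroup.mem_normalizer_iff.1 ht s).1 hs
  have hbs : (b : G) * s * (b : G)⁻¹ = s := by rw [hab b b.2 s hs]; group
  have he : t * s * t⁻¹ = (a : G) * s * (a : G)⁻¹ := by
    rw [← hab']
    calc (a : G) * b * s * ((a : G) * b)⁻¹ = (a : G) * ((b : G) * s * (b : G)⁻¹) * (a : G)⁻¹ := by group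
      _ = _ := by rw [hbs]
  have hz : t * s * t⁻¹ * s⁻¹ ∈ K ⊓ (S : Subgroup G) := by
    refine ⟨?_, (S : Subgroup G).mul_mem hts ((S : Subgroup G).inv_mem hs)⟩
    rw [he, show (a : G) * s * (a : G)⁻¹ * s⁻¹ = a * (s * (a : G)⁻¹ * s⁻¹) by group]
    exact K.mul_mem a.2 (hKn.conj_mem _ (K.inv_mem a.2) s)
  rw [hc.disjoint.eq_bot, Subgroup.mem_bot, mul_inv_eq_one, mul_inv_eq_iff_eq_mul] at hz
  exact hz.symm

lemma complement_of_centralize {p : ℕ} [Fact p.Prime] (S : Sylow p G)
    (h : Subgroup.normalizer ((S : Subgroup G) : Set G) ≤ Subgroup.centralizer ((S : Subgroup G) : Set G)) :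
    HasNormalPComplement p G :=
  Cfsg.Lib.Transfer.hasNormalPComplement_of_isComplement' (MonoidHom.ker_transferSylow_isComplement' S h)

/-- The block of the centraliser of one. -/
lemma rank_one_section {p : ℕ} [Fact p.Prime] (hM : IsPModular p M) (S : Sylow p G)
    (hab : ∀ a ∈ (S : Subgroup G), ∀ b ∈ (S : Subgroup G), a * b = b * a) :
    blockRank p (pb M (1 : G)) = blockRank p (principalBlock M G) :=
  (rank_top hM (isMaximal_principal hM S).1 (H := C⟨Subgroup.zpowers (1 : G)⟩)
    (by rw [centralizer_zpowers]; exact (Subgroup.centralizer_eq_top_iff_subset.2 (by simp)))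
    (isBelow_pb S hM hab (one_mem _)).1 (isBelow_pb S hM hab (one_mem _)).2).1

lemma wt_ne_zero (S : Subgroup G) (y : G) : wt S y ≠ 0 :=
  div_ne_zero (Nat.cast_ne_zero.2 Nat.card_pos.ne') (Nat.cast_ne_zero.2 Nat.card_pos.ne')

set_option maxHeartbeats 1600000 in
/-- The column of the principal block at an involution with a 2-nilpotent centraliser. -/
theorem exists_column (hM : IsPModular 2 M) [Fact (Nat.Prime 2)] (S : Sylow 2 G)
    (hab : ∀ a ∈ (S : Subgroup G), ∀ b ∈ (S : Subgroup G), a * b = b * a) {y : G}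
    (hy : y ∈ (S : Subgroup G)) (hy2 : orderOf y = 2)
    (hN : HasNormalPComplement 2 C⟨Subgroup.zpowers y⟩) :
    ∃ d : IrrCharacter G → ℤ, (∀ χ : IrrCharacter G, (χ : G → ℂ) y = (d χ : ℂ)) ∧
      (∀ χ ∈ principalBlock M G, d χ ≠ 0) ∧
      ∑ χ ∈ Finset.univ.filter (· ∈ principalBlock M G), d χ * d χ =
        (Nat.card (S : Subgroup G) : ℤ) := by
  choose d hd hd' using fun χ : IrrCharacter G => Cfsg.Agent.S0944.result χ y hy2
  refine ⟨d, hd, fun χ hχ h0 => ?_, ?_⟩
  · have hmax := isMaximal_principal hM S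
    obtain ⟨b, hb, hbel, w, hw, hne⟩ :=
      exists_major_part_ne_zero hM hmax hχ hy fun a ha => hab a ha y hy
    obtain ⟨Q, f, hQ, hle, hf⟩ := hbel
    rw [one_mul, inv_one, mul_one] at hQ
    subst hQ
    rw [cj_one] at hf
    obtain rfl := (existsUnique_subpairLE hM hmax.1.1 (Subgroup.zpowers_le.2 hy)).unique hle
      (subpairLE_principal hM S (Subgroup.zpowers_le.2 hy))
    obtain rfl : b = pb M y :=
      bi_injective hM hb (isPBlock_blockOf (principal C⟨Subgroup.zpowers y⟩)) hf.symm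
    refine hne ?_
    obtain ⟨K, hKn, hKc, k, hk⟩ := Cfsg.Lib.Transfer.hasNormalPComplement_iff.1 hN
    have hK : ¬ 2 ∣ Nat.card K := (Nat.prime_two.coprime_iff_not_dvd).1 hKc.symm
    have h1 := part_one hM (isPElem_of_mem S.2 hy) hχ
    rw [hd χ, h0, Int.cast_zero, blockPart_eq_sum] at h1
    rw [← h1, blockPart_eq_sum]
    refine Finset.sum_congr rfl fun φ hφ => ?_
    rw [(mem_principalBlock_iff hM K hK hk φ).1 (Finset.mem_filter.1 hφ).2 w
      (mem_of_pRegular_of_index_eq_pow Nat.prime_two K hk hw)]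
  · have h := sum_mat_self (S := S) hM hab fun g => if g = y then 1 else 0
    rw [Finset.sum_eq_single (⟨y, hy⟩ : (S : Subgroup G)) (fun v _ hv => by
      rw [if_neg fun e => hv (Subtype.ext e), zero_mul, zero_mul]) (by simp)] at h
    have hl : blockRank 2 (pb M y) = 1 := blockRank_principal_eq_one hM hN
    simp only [if_pos, one_mul, hl, Nat.cast_one, mul_one] at h
    have hterm : ∀ χ ∈ Finset.univ.filter (· ∈ principalBlock M G),
        mat 2 M (S : Subgroup G) (fun g => if g = y then 1 else 0) χ χ =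
          wt (S : Subgroup G) y * (Nat.card (S : Subgroup G) : ℂ)⁻¹ * ((d χ * d χ : ℤ) : ℂ) := by
      intro χ hχ
      rw [mat, Finset.sum_eq_single (⟨y, hy⟩ : (S : Subgroup G)) (fun v _ hv => by
        rw [if_neg fun e => hv (Subtype.ext e), zero_mul, zero_mul]) (by simp), if_pos rfl, one_mul,
        kk_of_complement hM hy hab hN (Finset.mem_filter.1 hχ).2 (Finset.mem_filter.1 hχ).2, hd χ,
        map_intCast, Int.cast_mul, mul_assoc]
    rw [Finset.sum_congr rfl hterm, ← Finset.mul_sum, mul_assoc,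
      mul_eq_left₀ (wt_ne_zero (S : Subgroup G) y),
      inv_mul_eq_one₀ (Nat.cast_ne_zero.2 Nat.card_pos.ne'), ← Int.cast_sum,
      ← Int.cast_natCast (R := ℂ)] at h
    exact (Int.cast_injective h).symm

/-- The sign character of a four group with a given kernel, on the group. -/
theorem exists_signs {S V W : Subgroup G} (hab : ∀ a ∈ S, ∀ b ∈ S, a * b = b * a)
    (hel : ∀ a ∈ S, a * a = 1) (hS : Nat.card S = 16) (hVS : V ≤ S) (hWS : W ≤ S)
    (hV : Nat.card V = 4) (hW : Nat.card W = 4) (hinf : V ⊓ W = ⊥) :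
    ∃ (pr : S →* V) (lam : V → (S →* ℂˣ)),
      (∀ (v : V) (y : S), (y : G) * ((pr y : V) : G) ∈ W ∧
        (v ≠ 1 → ((lam v y : ℂˣ) : ℂ) = if pr y = 1 ∨ pr y = v then 1 else -1)) ∧
      (∀ (v : V) (w : W), pr ⟨(v : G) * w, S.mul_mem (hVS v.2) (hWS w.2)⟩ = v) := by
  let f : V × W →* S :=
    { toFun := fun q => ⟨(q.1 : G) * q.2, S.mul_mem (hVS q.1.2) (hWS q.2.2)⟩
      map_one' := Subtype.ext (by simp)
      map_mul' := fun q q' => Subtype.ext (by
        show ((q.1 : G) * q'.1) * ((q.2 : G) * q'.2) = ((q.1 : G) * q.2) * ((q'.1 : G) * q'.2)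
        rw [mul_assoc, ← mul_assoc (q'.1 : G), hab _ (hVS q'.1.2) _ (hWS q.2.2)]
        group) }
  have hinj : Function.Injective f := fun q q' h =>
    Subgroup.mul_injective_of_disjoint (disjoint_iff.2 hinf) (congrArg Subtype.val h)
  have hb : Function.Bijective f :=
    (Nat.bijective_iff_injective_and_card _).2 ⟨hinj, by rw [Nat.card_prod, hV, hW, hS]⟩
  set e := MulEquiv.ofBijective f hb with he
  let pr : S →* V := (MonoidHom.fst V W).comp e.symm.toMonoidHom
  have hpr : ∀ q, pr (f q) = q.1 := fun q => by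
    show (e.symm (e q)).1 = q.1
    rw [e.symm_apply_apply]
  have hkey : ∀ a b c : V, a ≠ 1 → b ≠ 1 → a ≠ b → c ≠ 1 → c ≠ a → c ≠ b → c = a * b := by
    intro a b c ha hb' hab' hc hca hcb
    have h4 : Fintype.card V = 4 := by rw [← Nat.card_eq_fintype_card, hV]
    have hsq : a * a = 1 := Subtype.ext (hel a (hVS a.2))
    have hab1 : a * b ≠ 1 := fun h => hab' (mul_left_cancel (hsq.trans h.symm))
    have haba : a * b ≠ a := fun h => hb' (by simpa using h)
    have habb : a * b ≠ b := fun h => ha (by simpa using h)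
    by_contra hne
    have h5 : ({1, a, b, c, a * b} : Finset V).card = 5 := by
      repeat rw [Finset.card_insert_of_notMem]
      · simp
      · simp [hne]
      · simp [Ne.symm hcb, Ne.symm habb]
      · simp [hab', Ne.symm hca, Ne.symm haba]
      · simp [Ne.symm ha, Ne.symm hb', Ne.symm hc, Ne.symm hab1]
    have := Finset.card_le_univ ({1, a, b, c, a * b} : Finset V)
    omega
  let sg : V → V → ℂˣ := fun v x => if x = 1 ∨ x = v then 1 else -1
  have hmul : ∀ v x x' : V, v ≠ 1 → sg v (x * x') = sg v x * sg v x' := by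
    intro v x x' hv
    have hsq : ∀ a : V, a * a = 1 := fun a => Subtype.ext (hel a (hVS a.2))
    have hc : ∀ a b : V, a * b = b * a := fun a b =>
      Subtype.ext (hab a (hVS a.2) b (hVS b.2))
    by_cases hx : x = 1
    · simp [sg, hx]
    by_cases hx' : x' = 1
    · simp [sg, hx']
    by_cases hxx : x = x'
    · subst hxx
      simp only [sg, hsq]
      split_ifs <;> simp_all
    have h1 : x * x' ≠ 1 := fun h => hxx (mul_left_cancel ((hsq x).trans h.symm)).symm.symm
    have hxa : x * x' ≠ x := fun h => hx' (by simpa using h)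
    have hxb : x * x' ≠ x' := fun h => hx (by simpa using h)
    by_cases hxv : x = v
    · subst hxv
      simp [sg, hx, hx', h1, hxa, Ne.symm hxx]
    by_cases hxv' : x' = v
    · subst hxv'
      simp [sg, hx, hx', h1, hxb, hxx]
    have := hkey x x' v hx hx' hxx hv (Ne.symm hxv) (Ne.symm hxv')
    simp [sg, hx, hx', hxv, hxv', h1, ← this]
  refine ⟨pr, fun v => if hv : v = 1 then 1
    else { toFun := fun y => sg v (pr y)
           map_one' := by simp [sg]
           map_mul' := fun y y' => by rw [map_mul]; exact hmul v _ _ hv }, fun v y => ⟨?_, ?_⟩,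
    fun v w => hpr (v, w)⟩
  · obtain ⟨⟨v', w'⟩, rfl⟩ := hb.2 y
    rw [hpr]
    show (v' : G) * w' * v' ∈ W
    rw [hab _ (hVS v'.2) _ (hWS w'.2), mul_assoc, hel _ (hVS v'.2), mul_one]
    exact w'.2
  · intro hv
    simp only [dif_neg hv, MonoidHom.coe_mk, OneHom.coe_mk, sg]
    split_ifs <;> simp

end Cfsg.Lib.Blocks.SixteenNine
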