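import Cfsg.Agent.Blocks.SixteenNine.Local

/-!
# The local rank at an element of one of the invariant four groups

If the normalizer of an elementary Sylow subgroup of order sixteen centralises a four group and
moves a complementary one, the principal block has regular rank three.
-/

set_option autoImplicit false
set_option linter.unusedSectionVars false
set_option linter.style.haveILetI false

namespace Cfsg.Lib.Blocks.SixteenNine

open Cfsg.Lib.Chars Cfsg.Lib.Blocks Cfsg.Lib.Blocks.Star Cfsg.Lib.Blocks.PrincipalStar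
open scoped _root_.Classical ComplexConjugate

universe u

local notation "C⟨" P "⟩" => Subgroup.centralizer (SetLike.coe P)

variable {G : Type u} [Group G] [Fintype G] {M : Ideal AlgInt}

lemma mem_normalizer_subtype {p : ℕ} [Fact p.Prime] (S : Sylow p G) {H : Subgroup G}
    (hS : (S : Subgroup G) ≤ H) (t : H) :
    t ∈ Subgroup.normalizer (((S.subtype hS : Sylow p H) : Subgroup H) : Set H) ↔
      (t : G) ∈ Subgroup.normalizer ((S : Subgroup G) : Set G) := by
  simp only [Subgroup.mem_normalizer_iff, Sylow.coe_subtype, Subgroup.mem_subgroupOf,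
    Subgroup.coe_mul, Subgroup.coe_inv]
  refine ⟨fun h x => ⟨fun hx => (h ⟨x, hS hx⟩).1 hx, fun hx => ?_⟩, fun h x => h x⟩
  have hxH : x ∈ H := by
    have := mul_mem (mul_mem (inv_mem t.2) (hS hx)) t.2
    simpa [mul_assoc] using this
  exact (h ⟨x, hxH⟩).2 hx

/-- A centraliser in which the normalizer centralises the Sylow subgroup is `p`-nilpotent. -/
lemma complement_of_free {p : ℕ} [Fact p.Prime] (S : Sylow p G)
    (hab : ∀ a ∈ (S : Subgroup G), ∀ b ∈ (S : Subgroup G), a * b = b * a) {y : G}
    (hy : y ∈ (S : Subgroup G))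
    (h : ∀ t ∈ Subgroup.normalizer ((S : Subgroup G) : Set G), t * y = y * t →
      t ∈ Subgroup.centralizer ((S : Subgroup G) : Set G)) :
    HasNormalPComplement p C⟨Subgroup.zpowers y⟩ := by
  have hS : (S : Subgroup G) ≤ C⟨Subgroup.zpowers y⟩ := le_centralizer_zpowers hab hy
  refine complement_of_centralize (S.subtype hS) fun t ht => ?_
  have hmem : ∀ x : C⟨Subgroup.zpowers y⟩, x ∈ (S.subtype hS : Subgroup C⟨Subgroup.zpowers y⟩) ↔
      (x : G) ∈ (S : Subgroup G) := fun x => by
    rw [Sylow.coe_subtype, Subgroup.mem_subgroupOf]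
  have htN := (mem_normalizer_subtype S hS t).1 ht
  have htc := h t htN (Subgroup.mem_centralizer_singleton_iff.1 (by
    rw [← centralizer_zpowers]; exact t.2))
  exact Subgroup.mem_centralizer_iff.2 fun x hx =>
    Subtype.ext (Subgroup.mem_centralizer_iff.1 htc x ((hmem x).1 hx))

set_option maxHeartbeats 1000000 in
/-- The rank is three. -/
theorem rank_three (hM : IsPModular 2 M) [Fact (Nat.Prime 2)] (S : Sylow 2 G)
    (hab : ∀ a ∈ (S : Subgroup G), ∀ b ∈ (S : Subgroup G), a * b = b * a)
    (hel : ∀ a ∈ (S : Subgroup G), a * a = 1) (hS : Nat.card (S : Subgroup G) = 16)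
    {V W : Subgroup G} (hVS : V ≤ S) (hWS : W ≤ S) (hV : Nat.card V = 4) (hW : Nat.card W = 4)
    (hinf : V ⊓ W = ⊥)
    (hcenV : ∀ t ∈ Subgroup.normalizer ((S : Subgroup G) : Set G), ∀ v ∈ V, t * v = v * t)
    (hinvW : ∀ t ∈ Subgroup.normalizer ((S : Subgroup G) : Set G), ∀ w ∈ W, t * w * t⁻¹ ∈ W)
    (hfree : ∀ y ∈ (S : Subgroup G), y ∉ V →
      ∀ t ∈ Subgroup.normalizer ((S : Subgroup G) : Set G), t * y = y * t →
        t ∈ Subgroup.centralizer ((S : Subgroup G) : Set G))
    (hwt : ∀ y ∈ (S : Subgroup G), y ∉ V → wt (S : Subgroup G) y = 1 / 3)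
    (hmove : ¬ Subgroup.normalizer ((S : Subgroup G) : Set G) ≤
      Subgroup.centralizer ((S : Subgroup G) : Set G)) :
    blockRank 2 (principalBlock M G) = 3 := by
  obtain ⟨pr, lam, hlam, hpr⟩ := exists_signs hab hel hS hVS hWS hV hW hinf
  -- the projection is invariant
  have hprinv : ∀ (t : G) (y y' : (S : Subgroup G)),
      t ∈ Subgroup.normalizer ((S : Subgroup G) : Set G) → t * (y : G) * t⁻¹ = y' → pr y' = pr y := by
    intro t y y' ht he
    have hw : (y : G) * ((pr y : V) : G) ∈ W := (hlam 1 y).1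
    have hy : (y : G) = ((pr y : V) : G) * ((y : G) * ((pr y : V) : G)) := by
      rw [← mul_assoc, hab _ (hVS (pr y).2) _ y.2, mul_assoc, hel _ (hVS (pr y).2), mul_one]
    have hy' : (y' : G) = ((pr y : V) : G) * (t * ((y : G) * ((pr y : V) : G)) * t⁻¹) := by
      conv_lhs => rw [← he, hy]
      rw [← mul_assoc t, hcenV t ht _ (pr y).2]
      group
    have h := hpr (pr y) ⟨_, hinvW t ht _ hw⟩
    convert h using 2
    exact Subtype.ext hy'
  -- the ranks
  set g : ↥(S : Subgroup G) → ℂ := fun y =>
    wt (S : Subgroup G) (y : G) * (blockRank 2 (pb M (y : G)) : ℂ) with hg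
  have hgout : ∀ y : (S : Subgroup G), (y : G) ∉ V → g y = 1 / 3 := fun y hy => by
    simp only [hg, hwt _ y.2 hy, show blockRank 2 (pb M (y : G)) = 1 from
      blockRank_principal_eq_one hM (complement_of_free S hab y.2 (hfree _ y.2 hy)),
      Nat.cast_one, mul_one]
  have hwt1 : wt (S : Subgroup G) (1 : G) = 1 := by
    have htop : C⟨Subgroup.zpowers (1 : G)⟩ = ⊤ := by
      rw [Subgroup.eq_top_iff']
      intro t
      rw [centralizer_zpowers, Subgroup.mem_centralizer_singleton_iff, mul_one, one_mul]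
    rw [wt, htop, inf_top_eq, div_self (Nat.cast_ne_zero.2 Nat.card_pos.ne')]
  have hl0 : blockRank 2 (principalBlock M G) ≠ 1 := fun h1 =>
    hmove (centralize_of_complement hab (hasNormalPComplement_of_blockRank hM h1))
  have hlpos : 0 < blockRank 2 (principalBlock M G) := blockRank_pos hM (isPBlock_blockOf (principal G))
  set l := blockRank 2 (principalBlock M G) with hl
  have hg1 : g 1 = l := by
    simp only [hg, OneMemClass.coe_one, hwt1, one_mul, rank_one_section hM S hab, ← hl]
  -- the trace formulas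
  have hmax := isMaximal_principal hM S
  have hD : IsDefectGroup 2 M (principalBlock M G) (S : Subgroup G) :=
    isDefectGroup_of_noExtension hM hmax.1 (noExtension_of_maximal hM hmax)
  have hT : IsPairStab (S : Subgroup G) (principalBlock M C⟨(S : Subgroup G)⟩)
      (Subgroup.normalizer ((S : Subgroup G) : Set G)) := fun g =>
    ⟨fun h => ⟨h, (stabilizes_iff_of_normalizer hM hmax.1.1.2 h).2 (cj_bi_principal hM S.2 h)⟩,
      fun h => h.1⟩
  set c : V → ↥(S : Subgroup G) → ℂ := fun v y =>
    if v = 1 then 1 else if pr y = 1 ∨ pr y = v then 1 else -1 with hc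
  have htrace : ∀ v : V, ∑ y, c v y * g y =
      if v = 1 then (Nat.card (principalBlock M G) : ℂ) else 0 := by
    intro v
    by_cases hv : v = 1
    · have h := trace_formula hM hD hmax.1 hab hT (pb M) (fun y hy => isBelow_pb S hM hab hy)
        (lam := 1) (fun _ _ _ _ _ => rfl)
      rw [if_pos rfl] at h
      rw [if_pos hv, ← h]
      refine Finset.sum_congr rfl fun y _ => ?_
      simp only [hc, if_pos hv, MonoidHom.one_apply, Units.val_one, hg, wt]
    · have hne : lam v ≠ 1 := by
        intro h1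
        obtain ⟨x, hx, hxv⟩ : ∃ x : V, x ≠ 1 ∧ x ≠ v := by
          by_contra hno
          push Not at hno
          have := Finset.card_le_card (show (Finset.univ : Finset V) ⊆ {1, v} from fun x _ => by
            by_cases hx : x = 1
            · simp [hx]
            · simp [hno x hx])
          rw [Finset.card_univ, ← Nat.card_eq_fintype_card, hV] at this
          exact absurd (this.trans Finset.card_le_two) (by norm_num)
        have h2 := (hlam v ⟨_, hVS x.2⟩).2 hv
        have hpx : pr ⟨(x : G), hVS x.2⟩ = x := by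
          have h := hpr x 1
          simpa using h
        rw [h1, hpx, if_neg (by tauto), MonoidHom.one_apply, Units.val_one] at h2
        norm_num at h2
      have h := trace_formula hM hD hmax.1 hab hT (pb M) (fun y hy => isBelow_pb S hM hab hy)
        (lam := lam v) (fun t y y' ht he => Units.ext (by
          rw [(hlam v y').2 hv, (hlam v y).2 hv, hprinv t y y' ht he]))
      rw [if_neg hne] at h
      rw [if_neg hv, ← h]
      refine Finset.sum_congr rfl fun y _ => ?_
      simp only [hc, if_neg hv, (hlam v y).2 hv, hg, wt]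
  have hcsum : ∀ y, ∑ v : V, c v y = if pr y = 1 then 4 else 0 := by
    intro y
    have h4 : (Finset.univ : Finset V).card = 4 := by
      rw [Finset.card_univ, ← Nat.card_eq_fintype_card, hV]
    by_cases hy : pr y = 1
    · rw [if_pos hy, Finset.sum_congr rfl fun v _ => show c v y = 1 by simp [hc, hy],
        Finset.sum_const, h4]
      norm_num
    · rw [if_neg hy, ← Finset.sum_sdiff (Finset.subset_univ ({1, pr y} : Finset V)),
        Finset.sum_congr rfl (s₁ := Finset.univ \ {1, pr y}) (g := fun _ => (-1 : ℂ)) (fun v hv => ?_),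
        Finset.sum_const, Finset.card_sdiff, Finset.inter_univ,
        Finset.sum_pair (Ne.symm hy), Finset.card_pair (Ne.symm hy), h4]
      · simp [hc, hy]
        norm_num
      · simp only [Finset.mem_sdiff, Finset.mem_insert, Finset.mem_singleton, not_or] at hv
        simp [hc, hv.2.1, hy, Ne.symm hv.2.2]
  have hW' : ∀ y : (S : Subgroup G), pr y = 1 ↔ (y : G) ∈ W := fun y => by
    constructor
    · intro h
      simpa [h] using (hlam 1 y).1
    · intro h
      simpa using hpr 1 ⟨y, h⟩
  have hk : (Nat.card (principalBlock M G) : ℂ) = 4 * (l + 1) := by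
    have h := Finset.sum_congr rfl fun v (_ : v ∈ (Finset.univ : Finset V)) => htrace v
    rw [Finset.sum_comm, Finset.sum_ite_eq' Finset.univ (1 : V) (fun _ => (Nat.card (principalBlock M G) : ℂ)),
      if_pos (Finset.mem_univ _)] at h
    simp only [← Finset.sum_mul, hcsum, ite_mul, zero_mul, ← Finset.sum_filter, ← Finset.mul_sum] at h
    set F := Finset.univ.filter fun y : (S : Subgroup G) => pr y = 1 with hF
    have h1F : (1 : (S : Subgroup G)) ∈ F := by simp [hF]
    have hFc : F.card = 4 := by
      rw [hF, Finset.filter_congr (fun y _ => hW' y), ← Fintype.card_subtype,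
        ← Nat.card_eq_fintype_card, ← hW]
      exact Nat.card_congr ⟨fun y => ⟨y.1, y.2⟩, fun w => ⟨⟨w, hWS w.2⟩, w.2⟩, fun _ => rfl,
        fun _ => rfl⟩
    rw [← Finset.add_sum_erase _ _ h1F, hg1, Finset.sum_congr rfl fun y hy => hgout y fun hyV => ?_,
      Finset.sum_const, Finset.card_erase_of_mem h1F, hFc] at h
    · rw [← h]
      norm_num
    · obtain ⟨hy1, hyF⟩ := Finset.mem_erase.1 hy
      exact hy1 (Subtype.ext (Subgroup.mem_bot.1 (hinf ▸ ⟨hyV, (hW' y).1 (Finset.mem_filter.1 hyF).2⟩)))
  have hk' : Nat.card (principalBlock M G) = 4 * (l + 1) := by exact_mod_cast hk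
  -- the column
  haveI : Nontrivial W := Finite.one_lt_card_iff_nontrivial.1 (by rw [hW]; norm_num)
  obtain ⟨w, hw1⟩ := exists_ne (1 : W)
  obtain ⟨d, -, hd0, hd2⟩ := exists_column hM S hab (hWS w.2)
    (orderOf_eq_prime (by rw [pow_two]; exact hel _ (hWS w.2)) fun e => hw1 (Subtype.ext e))
    (complement_of_free S hab (hWS w.2) (hfree _ (hWS w.2) fun hwV =>
      hw1 (Subtype.ext (Subgroup.mem_bot.1 (hinf ▸ ⟨hwV, w.2⟩)))))
  set B := Finset.univ.filter (· ∈ principalBlock M G) with hB
  have hBc : B.card = 4 * (l + 1) := by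
    rw [← hk', hB, Nat.card_eq_fintype_card, ← Fintype.card_subtype]
  rw [hS] at hd2
  have h1 : ∀ χ ∈ B, 1 ≤ d χ * d χ := fun χ hχ => mul_self_pos.2 (hd0 χ (Finset.mem_filter.1 hχ).2)
  have hle := Finset.card_nsmul_le_sum B (fun χ => d χ * d χ) 1 h1
  rw [hd2, hBc, nsmul_eq_mul, mul_one] at hle
  push_cast at hle
  have hl3 : l = 2 ∨ l = 3 := by omega
  rcases hl3 with h2 | h3
  · exfalso
    rw [h2] at hBc
    have hterm : ∀ χ ∈ B, d χ * d χ = 1 ∨ d χ * d χ = 4 := fun χ hχ => by
      have hle' := Finset.card_nsmul_le_sum (B.erase χ) (fun χ => d χ * d χ) 1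
        (fun θ hθ => h1 θ (Finset.mem_of_mem_erase hθ))
      rw [← Finset.add_sum_erase _ _ hχ] at hd2
      rw [Finset.card_erase_of_mem hχ, hBc, nsmul_eq_mul, mul_one] at hle'
      push_cast at hd2 hle'
      have h5 : d χ * d χ ≤ 5 := by omega
      have : d χ < 3 ∧ -3 < d χ := ⟨by nlinarith, by nlinarith⟩
      have := hd0 χ (Finset.mem_filter.1 hχ).2
      obtain e | e | e | e : d χ = 1 ∨ d χ = -1 ∨ d χ = 2 ∨ d χ = -2 := by omega
      all_goals simp [e]
    have h3 : (3 : ℤ) ∣ ∑ χ ∈ B, (d χ * d χ - 1) :=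
      Finset.dvd_sum fun χ hχ => by rcases hterm χ hχ with e | e <;> rw [e] <;> norm_num
    rw [Finset.sum_sub_distrib, hd2, Finset.sum_const, hBc] at h3
    norm_num at h3
  · exact h3

end Cfsg.Lib.Blocks.SixteenNine
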